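import Groth.Agent.Neron.K643.DescAmple
import Groth.Agent.Sga7.H516.LiftData

/-!
# Descent of Neron models from the strict henselization

`R` a discrete valuation ring, `R'` a strict henselization, `K`, `K'` the fraction fields, `A` over `K`
geometrically integral, separated, quasi-compact, `N` a Neron model over `R'` of `A_{K'}`, with compatible ample
modules on `A` and `N`.  Then `A` has a Neron model over `R`.
-/

set_option autoImplicit false
set_option backward.isDefEq.respectTransparency false
set_option linter.unusedSectionVars false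

universe u

open CategoryTheory CategoryTheory.Limits AlgebraicGeometry
open Groth.Agent Groth.Agent.Sga7.H516 Groth.Agent.Sga7.H516.Square
  Groth.Agent.Sga7.H516.NeronNeutral Groth.Agent.Sga7.H516.LiftData Groth.Agent.Sga7.H516.Assemble
  Groth.Agent.Sga7.H516.GrpDescent

namespace K643.NeronDesc

variable (R R' K K' : Type u) [CommRing R] [IsDomain R] [IsDiscreteValuationRing R] [CommRing R']
  [IsDomain R'] [IsLocalRing R'] [Algebra R R'] [IsLocalHom (algebraMap R R')]
  [Hensel.IsStrictHenselization R R']
  [Field K] [Algebra R K] [IsFractionRing R K] [Field K'] [Algebra R' K'] [IsFractionRing R' K']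
  [Algebra K K'] [Algebra R K'] [IsScalarTower R K K'] [IsScalarTower R R' K']

/-- The Neron mapping property descends. -/
theorem isNeron_of_isPullback {A : Over (Spec (CommRingCat.of K))} {N : Over (Spec (CommRingCat.of R'))}
    (hN : SGA7.IsNeron R' K' N) (e : (SGA7.genFib R' K').obj N ≅ Red.bc (sp K K') A)
    {X : Over (Spec (CommRingCat.of R))} {j : A.left ⟶ X.left} {q : N.left ⟶ X.left}
    (hj : IsPullback j A.hom X.hom (sp R K)) (hq : IsPullback q N.hom X.hom (sp R R'))
    (hc : pullback.fst N.hom (sp R' K') ≫ q = e.hom.left ≫ pullback.fst A.hom (sp K K') ≫ j) :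
    SGA7.IsNeron R K X := by
  have hNs : Smooth N.hom := hN.1
  have hNsep : IsSeparated N.hom := hN.2.1
  have hNqc : QuasiCompact N.hom := hN.2.2.1
  have hsm : Smooth X.hom := MorphismProperty.of_isPullback_of_descendsAlong
    (P := @Smooth) hq.flip (sp_descent R R') inferInstance
  have hsep : IsSeparated X.hom := MorphismProperty.of_isPullback_of_descendsAlong
    (P := @IsSeparated) hq.flip (sp_descent R R') inferInstance
  have hqs : Surjective q :=
    MorphismProperty.of_isPullback (P := @Surjective) hq.flip inferInstance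
  have hqc : QuasiCompact X.hom := by
    have h1 : CompactSpace N.left := QuasiCompact.compactSpace_of_compactSpace N.hom
    have h2 : CompactSpace X.left := by
      refine ⟨?_⟩
      rw [← q.surjective.range_eq]
      exact isCompact_range q.continuous
    exact (HasAffineProperty.iff_of_isAffine (P := @QuasiCompact) (f := X.hom)).2 h2
  have hgc : genι K' e ≫ q = pullback.fst A.hom (sp K K') ≫ j := by
    have h5 : e.inv.left ≫ e.hom.left = 𝟙 _ := congrArg (fun t => t.left) e.inv_hom_id
    rw [genι, Category.assoc, hc, reassoc_of% h5]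
  refine ⟨hsm, hsep, hqc, fun Y hY => ⟨fun g g' hgg => ?_, fun F => ?_⟩⟩
  · ext1
    refine GenExt.ext_of_generic (x := Y.hom) (y := X.hom) (IsPullback.of_hasPullback Y.hom (sp R K))
      ((Over.w g).trans (Over.w g').symm) ?_
    have h1 := congrArg (fun t => t.left ≫ pullback.fst X.hom (sp R K)) hgg
    have h2 : ∀ c : Y ⟶ X, ((Over.pullback (sp R K)).map c).left ≫ pullback.fst X.hom (sp R K) =
      pullback.fst Y.hom (sp R K) ≫ c.left := fun c => pullback.lift_fst _ _ _
    dsimp only at h1
    rw [h2, h2] at h1
    exact h1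
  · -- the morphism to `A`
    let FA : pullback Y.hom (sp R K) ⟶ A.left := (F ≫ (genIso hj).hom).left
    have hFA : FA ≫ A.hom = pullback.snd Y.hom (sp R K) := Over.w (F ≫ (genIso hj).hom)
    have hFj : FA ≫ j = F.left ≫ pullback.fst X.hom (sp R K) := by
      change (F ≫ (genIso hj).hom).left ≫ j = _
      rw [Over.comp_left, Category.assoc, genIso_hom_left]
    -- over `R'`
    let y' := pullback.snd Y.hom (sp R R')
    have hy' : Smooth y' := MorphismProperty.pullback_snd (P := @Smooth) _ _ hY
    let l : pullback y' (sp R' K') ⟶ pullback Y.hom (sp R K) :=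
      pullback.lift (pullback.fst y' (sp R' K') ≫ pullback.fst Y.hom (sp R R'))
        (pullback.snd y' (sp R' K') ≫ sp K K') (by
        rw [Category.assoc, Category.assoc, pullback.condition, pullback.condition_assoc, sp_comp,
          sp_comp])
    have hl1 : l ≫ pullback.fst Y.hom (sp R K) =
      pullback.fst y' (sp R' K') ≫ pullback.fst Y.hom (sp R R') := pullback.lift_fst _ _ _
    have hl2 : l ≫ pullback.snd Y.hom (sp R K) = pullback.snd y' (sp R' K') ≫ sp K K' :=
      pullback.lift_snd _ _ _
    let m : pullback y' (sp R' K') ⟶ (Red.bc (sp K K') A).left :=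
      pullback.lift (l ≫ FA) (pullback.snd y' (sp R' K')) (by
        rw [Category.assoc, hFA, hl2])
    have hm1 : m ≫ pullback.fst A.hom (sp K K') = l ≫ FA := pullback.lift_fst _ _ _
    have hm2 : m ≫ (Red.bc (sp K K') A).hom = pullback.snd y' (sp R' K') := pullback.lift_snd _ _ _
    obtain ⟨g₀, hg₀, hg₀'⟩ := NeronExt.exists_ext hN (IsPullback.of_hasPullback y' (sp R' K'))
      (m ≫ genι K' e) (by
        rw [Category.assoc, (isPullback_genι K' e).w, reassoc_of% hm2])
    obtain ⟨h, hh, hhj, -⟩ := GenExt.exists_ext (y := X.hom)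
      (IsPullback.of_hasPullback Y.hom (sp R R')) (IsPullback.of_hasPullback Y.hom (sp R K))
      (f := FA ≫ j) (g := g₀ ≫ q) (by
        rw [Category.assoc, hq.w, reassoc_of% hg₀, pullback.condition]) (by
        let px := pullback.fst Y.hom (sp R R')
        let jx := pullback.fst Y.hom (sp R K)
        change pullback.fst px jx ≫ g₀ ≫ q = pullback.snd px jx ≫ FA ≫ j
        let w : pullback px jx ⟶ Spec (CommRingCat.of K') :=
          (isPullback_sp R R' K K').lift (pullback.snd px jx ≫ pullback.snd Y.hom (sp R K))
            (pullback.fst px jx ≫ pullback.snd Y.hom (sp R R')) (by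
            rw [Category.assoc, Category.assoc, ← pullback.condition, ← pullback.condition,
              pullback.condition_assoc])
        have hw1 : w ≫ sp K K' = pullback.snd px jx ≫ pullback.snd Y.hom (sp R K) :=
          (isPullback_sp R R' K K').lift_fst _ _ _
        have hw2 : w ≫ sp R' K' = pullback.fst px jx ≫ pullback.snd Y.hom (sp R R') :=
          (isPullback_sp R R' K K').lift_snd _ _ _
        let k : pullback px jx ⟶ pullback y' (sp R' K') :=
          pullback.lift (pullback.fst px jx) w hw2.symm
        have hk1 : k ≫ pullback.fst y' (sp R' K') = pullback.fst px jx := pullback.lift_fst _ _ _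
        have hk2 : k ≫ pullback.snd y' (sp R' K') = w := pullback.lift_snd _ _ _
        have hkl : k ≫ l = pullback.snd px jx := by
          apply pullback.hom_ext
          · rw [Category.assoc, hl1, reassoc_of% hk1, pullback.condition]
          · rw [Category.assoc, hl2, reassoc_of% hk2, hw1]
        rw [← hk1, Category.assoc, reassoc_of% hg₀', hgc, reassoc_of% hm1, reassoc_of% hkl])
    refine ⟨Over.homMk h hh, ?_⟩
    ext1
    apply pullback.hom_ext
    · refine (pullback.lift_fst _ _ _ : ((Over.pullback (sp R K)).map (Over.homMk h hh : Y ⟶ X)).left ≫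
        pullback.fst X.hom (sp R K) = pullback.fst Y.hom (sp R K) ≫ h).trans ?_
      exact hhj.trans hFj
    · exact (Over.w ((Over.pullback (sp R K)).map (Over.homMk h hh : Y ⟶ X))).trans (Over.w F).symm

/-- **Descent of Neron models from the strict henselization.** -/
theorem exists_isNeron {A : Over (Spec (CommRingCat.of K))} [GeometricallyIntegral A.hom]
    [IsSeparated A.hom] [QuasiCompact A.hom] {N : Over (Spec (CommRingCat.of R'))}
    (hN : SGA7.IsNeron R' K' N) (e : (SGA7.genFib R' K').obj N ≅ Red.bc (sp K K') A)
    {LA : A.left.Modules} (hLA : CohB1.IsAmple LA) {L' : N.left.Modules} (hL' : CohB1.IsAmple L')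
    (θ : (Scheme.Modules.pullback (genι K' e)).obj L' ≅
      (Scheme.Modules.pullback (pullback.fst A.hom (sp K K'))).obj LA) :
    ∃ (X : Over (Spec (CommRingCat.of R))) (j : A.left ⟶ X.left) (q : N.left ⟶ X.left),
      IsPullback j A.hom X.hom (sp R K) ∧ IsPullback q N.hom X.hom (sp R R') ∧
      pullback.fst N.hom (sp R' K') ≫ q = e.hom.left ≫ pullback.fst A.hom (sp K K') ≫ j ∧
      SGA7.IsNeron R K X := by
  have hNs : Smooth N.hom := hN.1
  have hNsep : IsSeparated N.hom := hN.2.1
  have hNqc : QuasiCompact N.hom := hN.2.2.1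
  have hR' : IsDiscreteValuationRing R' := SHBasic.isDiscreteValuationRing R R'
  have h : ∀ σ : R' ≃ₐ[R] R', ∃ φ : N.left ⟶ N.left, φ ≫ N.hom = N.hom ≫ spAut σ ∧
      genι K' e ≫ φ = twist K K' A σ ≫ genι K' e := fun σ => by
    obtain ⟨φ, h1, h2⟩ := NeronExt.exists_semilinear K K' hN (isPullback_genι K' e) σ
      (twist K K' A σ) (twist_snd K K' A σ)
    exact ⟨φ, h1, h2⟩
  have i0 : GeometricallyIntegral (Red.bc (sp K K') A).hom :=
    MorphismProperty.pullback_snd (P := @GeometricallyIntegral) _ _ inferInstance
  have i1 : IsIntegral (Red.bc (sp K K') A).left :=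
    GeometricallyIntegral.isIntegral_of_subsingleton (Red.bc (sp K K') A).hom
  have i2 : IsIntegral (data K K' A N e).X := isIntegral_of_isPullback R' K' (isPullback_genι K' e)
  have i3 : IsIntegral (data K K' A N e).A := GeometricallyIntegral.isIntegral_of_subsingleton A.hom
  have i4 : Smooth (data K K' A N e).x := hNs
  have i5 : IsSeparated (data K K' A N e).x := hNsep
  have i6 : QuasiCompact (data K K' A N e).x := hNqc
  have i7 : QuasiCompact (data K K' A N e).a := inferInstanceAs (QuasiCompact A.hom)
  obtain ⟨X, j, q, h1, h2, h3⟩ := desc_of_charts K K' h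
    (DescAmple.exists_chart (E := data K K' A N e) (lift K K' h)
      (fun ϖ hϖ => SHBasic.irreducible_algebraMap R' hϖ) (fixedRes R R') hL' hLA θ)
  exact ⟨X, j, q, h1, h2, h3, isNeron_of_isPullback R R' K K' hN e h1 h2 h3⟩

/-- The same, with the identification of the generic fibre. -/
theorem exists_isNeron' {A : Over (Spec (CommRingCat.of K))} [GeometricallyIntegral A.hom]
    [IsSeparated A.hom] [QuasiCompact A.hom] {N : Over (Spec (CommRingCat.of R'))}
    (hN : SGA7.IsNeron R' K' N) (e : (SGA7.genFib R' K').obj N ≅ Red.bc (sp K K') A)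
    {LA : A.left.Modules} (hLA : CohB1.IsAmple LA) {L' : N.left.Modules} (hL' : CohB1.IsAmple L')
    (θ : (Scheme.Modules.pullback (genι K' e)).obj L' ≅
      (Scheme.Modules.pullback (pullback.fst A.hom (sp K K'))).obj LA) :
    ∃ (X : Over (Spec (CommRingCat.of R))) (_ : (SGA7.genFib R K).obj X ≅ A), SGA7.IsNeron R K X := by
  obtain ⟨X, j, q, h1, -, -, h4⟩ := exists_isNeron R R' K K' hN e hLA hL' θ
  exact ⟨X, genIso h1, h4⟩

end K643.NeronDesc
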