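import Groth.Agent.Neron.K643.Fun
import Groth.Agent.Sga7.H331.Sec
import Groth.Agent.VarietyB.BCAlg
import Mathlib.RingTheory.TensorProduct.IsBaseChangeFree
import Mathlib.LinearAlgebra.TensorProduct.Basis
import Mathlib.LinearAlgebra.Basis.VectorSpace

/-!
# Rational functions and base change of fields
-/

set_option autoImplicit false
set_option backward.isDefEq.respectTransparency false

universe u

open CategoryTheory CategoryTheory.Limits AlgebraicGeometry TopologicalSpace TensorProduct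
open Groth.Agent.Fdesc.LocGen Groth.Agent.Sga7.H331

namespace K643.Rat

variable {K : Type u} [Field K] {A : Scheme.{u}} {F : Type u} [Field F]

theorem ev_co {a : A ⟶ Spec (CommRingCat.of K)} [Algebra K F] {ξ : Spec (CommRingCat.of F) ⟶ A}
    (hξ : ξ ≫ a = Spec.map (CommRingCat.ofHom (algebraMap K F))) {V : A.Opens}
    (hV : (⊤ : (Spec (CommRingCat.of F)).Opens) ≤ ξ ⁻¹ᵁ V) (k : K) :
    ev ξ hV (Sec.co a V k) = algebraMap K F k := by
  have h1 : Sec.co (𝟙 (Spec (CommRingCat.of F))) ⊤ ≫ (Scheme.ΓSpecIso (CommRingCat.of F)).hom = 𝟙 _ := by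
    rw [Sec.co, Category.assoc]
    have : (𝟙 (Spec (CommRingCat.of F)) : _ ⟶ _).appLE ⊤ ⊤ le_top = 𝟙 _ :=
      (Scheme.Hom.appLE_eq_app _).trans rfl
    rw [this, Category.id_comp, Iso.inv_hom_id]
  have h2 := Sec.co_appLE (A := CommRingCat.of K) (A' := CommRingCat.of F) a
    (𝟙 (Spec (CommRingCat.of F))) (φ := CommRingCat.ofHom (algebraMap K F)) (h := ξ)
    (by rw [Category.id_comp]; exact hξ) hV
  rw [ev_apply, ← CommRingCat.comp_apply (Sec.co a V), h2, CommRingCat.comp_apply,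
    ← CommRingCat.comp_apply (Sec.co (𝟙 (Spec (CommRingCat.of F))) ⊤), h1]
  rfl

theorem algebraMap_mem {a : A ⟶ Spec (CommRingCat.of K)} [Algebra K F] {ξ : Spec (CommRingCat.of F) ⟶ A}
    (hξ : ξ ≫ a = Spec.map (CommRingCat.ofHom (algebraMap K F))) (k : K) (x : A) :
    algebraMap K F k ∈ Reg ξ x := by
  rw [← ev_co hξ (V := ⊤) le_top k]
  exact ev_mem (show x ∈ (⊤ : A.Opens) from trivial) _ _

variable {K' : Type u} [Field K'] [Algebra K K'] {P : Scheme.{u}} {p : P ⟶ A}
  {b : P ⟶ Spec (CommRingCat.of K')} {a : A ⟶ Spec (CommRingCat.of K)}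
  (H : IsPullback p b a (Spec.map (CommRingCat.ofHom (algebraMap K K'))))
  [Algebra K' F] [Algebra K F] [IsScalarTower K K' F]
  {υ : Spec (CommRingCat.of F) ⟶ P} {ξ : Spec (CommRingCat.of F) ⟶ A} (hξ : υ ≫ p = ξ)
  (hυ : υ ≫ b = Spec.map (CommRingCat.ofHom (algebraMap K' F)))

include H hξ hυ in
theorem ξ_a : ξ ≫ a = Spec.map (CommRingCat.ofHom (algebraMap K F)) := by
  rw [← hξ, Category.assoc, H.w, reassoc_of% hυ, ← Spec.map_comp, ← CommRingCat.ofHom_comp,
    ← IsScalarTower.algebraMap_eq]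

variable [IsIntegral A] [IsIntegral P] [IsDominant υ] [IsDominant ξ] {J : Type u}
  (l : Module.Basis J K K')

omit [Algebra K F] [IsScalarTower K K' F] in
include H hξ hυ in
theorem affine_repr {V : A.Opens} (hV : IsAffineOpen V)
    (hVt : (⊤ : (Spec (CommRingCat.of F)).Opens) ≤ ξ ⁻¹ᵁ V) :
    (∀ f : F, (∀ w ∈ p ⁻¹ᵁ V, f ∈ Reg υ w) → ∃ c : J →₀ F, (∀ j, ∀ x ∈ V, c j ∈ Reg ξ x) ∧
      (c.sum fun j y => l j • y) = f) ∧
    (∀ c : J →₀ F, (∀ j, ∀ x ∈ V, c j ∈ Reg ξ x) → (c.sum fun j y => l j • y) = 0 → c = 0) := by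
  have hVt' : (⊤ : (Spec (CommRingCat.of F)).Opens) ≤ υ ⁻¹ᵁ (p ⁻¹ᵁ V) := by
    rw [← hξ] at hVt
    exact hVt
  let _ : Algebra K Γ(A, V) := (Sec.co (A := CommRingCat.of K) a V).hom.toAlgebra
  let _ : Algebra K' Γ(P, p ⁻¹ᵁ V) := (Sec.co (A := CommRingCat.of K') b (p ⁻¹ᵁ V)).hom.toAlgebra
  let _ : Algebra Γ(A, V) Γ(P, p ⁻¹ᵁ V) := (p.appLE V (p ⁻¹ᵁ V) le_rfl).hom.toAlgebra
  let _ : Algebra K Γ(P, p ⁻¹ᵁ V) :=
    ((Sec.co (A := CommRingCat.of K') b (p ⁻¹ᵁ V)).hom.comp (algebraMap K K')).toAlgebra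
  have hpo := Sec.isPushout_co (A := CommRingCat.of K) (A' := CommRingCat.of K') a b H hV rfl
  have _ : IsScalarTower K K' Γ(P, p ⁻¹ᵁ V) := IsScalarTower.of_algebraMap_eq fun _ => rfl
  have _ : IsScalarTower K Γ(A, V) Γ(P, p ⁻¹ᵁ V) := IsScalarTower.of_algebraMap_eq fun k => by
    exact congr($(hpo.w) k)
  have hP1 : Algebra.IsPushout K K' Γ(A, V) Γ(P, p ⁻¹ᵁ V) :=
    CommRingCat.isPushout_iff_isPushout.mp hpo
  have hP2 : Algebra.IsPushout K Γ(A, V) K' Γ(P, p ⁻¹ᵁ V) := hP1.symm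
  let B := hP2.out.basis l
  have hB : ∀ j, B j = algebraMap K' Γ(P, p ⁻¹ᵁ V) (l j) := fun j => hP2.out.basis_apply l j
  have hev : ∀ (s : Γ(A, V)) (j : J), ev υ hVt' (s • B j) = l j • ev ξ hVt s := by
    intro s j
    rw [Algebra.smul_def, map_mul, hB, mul_comm, Algebra.smul_def]
    congr 1
    · exact ev_co hυ hVt' (l j)
    · exact ev_map (e_id hξ) hVt hVt' le_rfl s
  constructor
  · intro f hf
    obtain ⟨t, rfl⟩ := exists_section υ hVt' f hf
    refine ⟨(B.repr t).mapRange (ev ξ hVt) (map_zero _), fun j x hx => ?_, ?_⟩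
    · rw [Finsupp.mapRange_apply]
      exact ev_mem hx _ _
    · rw [Finsupp.sum_mapRange_index (fun j => smul_zero _)]
      conv_rhs => rw [← B.linearCombination_repr t, Finsupp.linearCombination_apply, map_finsuppSum]
      refine Finsupp.sum_congr fun j _ => ?_
      rw [hev]
  · intro c hc h0
    choose s hs using fun j => exists_section ξ hVt (c j) (hc j)
    have hs0 : ∀ j, c j = 0 → s j = 0 := by
      intro j hj
      apply ev_injective ξ hVt
      rw [hs, hj, map_zero]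
    let s' : J →₀ Γ(A, V) := Finsupp.onFinset c.support s fun j hj => by
      rw [Finsupp.mem_support_iff]
      exact fun h => hj (hs0 j h)
    have h1 : Finsupp.linearCombination Γ(A, V) B s' = 0 := by
      apply ev_injective υ hVt'
      rw [Finsupp.linearCombination_apply, map_finsuppSum, map_zero, ← h0]
      rw [Finsupp.sum_of_support_subset s' (Finsupp.support_onFinset_subset (hf := fun j hj => by
        rw [Finsupp.mem_support_iff]
        exact fun h => hj (hs0 j h))) _ (fun j _ => by rw [zero_smul, map_zero])]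
      refine Finset.sum_congr rfl fun j _ => ?_
      rw [hev]
      congr 1
      exact hs j
    have h2 : s' = 0 := by
      have h3 := B.repr_linearCombination s'
      rw [h1, map_zero] at h3
      exact h3.symm
    ext j
    have h3 : s j = 0 := DFunLike.congr_fun h2 j
    rw [← hs, h3, map_zero]
    rfl

omit [IsIntegral A] in
theorem reg_generic {x : A} {f : F} (hf : f ∈ Reg ξ x) : f ∈ Reg ξ (ξ (pt F)) := by
  obtain ⟨U, hx, hU, a, rfl⟩ := hf
  exact ev_mem (pt_mem ξ hx) _ _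

omit [Algebra K F] [IsScalarTower K K' F] in
include H hξ hυ in
/-- Linear independence over the rational functions of `A`. -/
theorem eq_zero_of_sum (c : J →₀ F) (hc : ∀ j, c j ∈ Reg ξ (ξ (pt F)))
    (h : (c.sum fun j y => l j • y) = 0) : c = 0 := by
  let W : A.Opens := ⟨⋂ j ∈ c.support, {x : A | c j ∈ Reg ξ x},
    isOpen_biInter_finset fun j _ => isOpen_reg ξ _⟩
  have hW : ξ (pt F) ∈ W := Set.mem_iInter₂.mpr fun j _ => hc j
  obtain ⟨V, hV, hxV, hVW⟩ := exists_isAffineOpen_mem_and_subset hW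
  refine (affine_repr H hξ hυ l hV ((top_le_iff ξ).mpr hxV)).2 c (fun j x hx => ?_) h
  by_cases hj : j ∈ c.support
  · exact Set.mem_iInter₂.mp (hVW hx) j hj
  · rw [Finsupp.notMem_support_iff.mp hj]
    exact zero_mem _

omit [Algebra K F] [IsScalarTower K K' F] in
include H hξ hυ in
/-- Base change of the space of sections of a divisor. -/
theorem exists_sec_repr (D : Dv ξ) (hD : ∀ x, D.g x ∈ Reg ξ (ξ (pt F))) {f : F}
    (hf : ∀ w, f / D.g (p w) ∈ Reg υ w) : ∃ c : J →₀ F, (∀ j, D.IsSec (c j)) ∧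
      (∀ j, c j ∈ Reg ξ (ξ (pt F))) ∧ (c.sum fun j y => l j • y) = f := by
  have key : ∀ x : A, ∃ c : J →₀ F, (∀ j, c j / D.g x ∈ Reg ξ x) ∧ (∀ j, c j ∈ Reg ξ (ξ (pt F))) ∧
      (c.sum fun j y => l j • y) = f := by
    intro x
    obtain ⟨W, hxW, hW⟩ := D.loc x
    obtain ⟨V, hV, hxV, hVW⟩ := exists_isAffineOpen_mem_and_subset hxW
    obtain ⟨c, hc, hc'⟩ := (affine_repr H hξ hυ l hV (top_le ξ hxV)).1 (f / D.g x) (by
      intro w hw
      have h1 : f / D.g x = f / D.g (p w) * (D.g (p w) / D.g x) := by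
        have := D.ne (p w)
        field_simp
      rw [h1]
      exact mul_mem (hf w) (reg_map (σ := RingHom.id F) (e_id hξ) (hW (p w) (hVW hw)).2.1))
    refine ⟨c.mapRange (fun y => y * D.g x) (zero_mul _), fun j => ?_, fun j => ?_, ?_⟩
    · rw [Finsupp.mapRange_apply, mul_div_cancel_right₀ _ (D.ne x)]
      exact hc j x hxV
    · rw [Finsupp.mapRange_apply]
      exact mul_mem (reg_generic (hc j x hxV)) (hD x)
    · rw [Finsupp.sum_mapRange_index (fun j => smul_zero _)]
      have h2 := congrArg (· * D.g x) hc'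
      simp only [div_mul_cancel₀ _ (D.ne x), Finsupp.sum, Finset.sum_mul, smul_mul_assoc] at h2
      exact h2
  obtain ⟨c, hc1, hc2, hc3⟩ := key (ξ (pt F))
  refine ⟨c, fun j x => ?_, hc2, hc3⟩
  obtain ⟨c', hc1', hc2', hc3'⟩ := key x
  have h1 : c = c' := by
    rw [← sub_eq_zero]
    refine eq_zero_of_sum H hξ hυ l (c - c') (fun j => ?_) ?_
    · rw [Finsupp.sub_apply]
      exact sub_mem (hc2 j) (hc2' j)
    · rw [Finsupp.sum_sub_index (fun j y y' => smul_sub _ _ _), hc3, hc3', sub_self]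
  rw [h1]
  exact hc1' j

/-- The inclusion of a `K`-subspace in the `K'`-subspace it generates. -/
def incl (M : Submodule K F) : M →ₛₗ[algebraMap K K'] Submodule.span K' (M : Set F) where
  toFun d := ⟨d, Submodule.subset_span d.2⟩
  map_add' _ _ := rfl
  map_smul' k d := by
    apply Subtype.ext
    change k • (d : F) = algebraMap K K' k • (d : F)
    rw [algebraMap_smul]

omit [Algebra K F] [IsScalarTower K K' F] in
include H hξ hυ in
theorem bijective_incl [Algebra K F] [IsScalarTower K K' F] (M : Submodule K F)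
    (hM : ∀ f ∈ M, f ∈ Reg ξ (ξ (pt F))) :
    Function.Bijective (Groth.Agent.VarietyB.BCAlg.bc (incl (K' := K') M)) := by
  let l := Module.Basis.ofVectorSpace K K'
  constructor
  · rw [injective_iff_map_eq_zero]
    intro z hz
    classical
    obtain ⟨c, rfl⟩ := (TensorProduct.equivFinsuppOfBasisLeft l).symm.surjective z
    rw [TensorProduct.equivFinsuppOfBasisLeft_symm_apply] at hz ⊢
    have h1 : (c.mapRange (fun m : M => (m : F)) rfl) = 0 := by
      refine eq_zero_of_sum H hξ hυ l _ (fun j => ?_) ?_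
      · rw [Finsupp.mapRange_apply]
        exact hM _ (c j).2
      · rw [Finsupp.sum_mapRange_index (fun j => smul_zero _)]
        have h2 := congrArg Subtype.val hz
        rw [map_finsuppSum] at h2
        simp only [Groth.Agent.VarietyB.BCAlg.bc_tmul] at h2
        rw [Finsupp.sum] at h2 ⊢
        rw [AddSubmonoidClass.coe_finsetSum] at h2
        exact h2
    have h3 : c = 0 := by
      ext j
      exact DFunLike.congr_fun h1 j
    rw [h3, Finsupp.sum_zero_index]
  · rintro ⟨f, hf⟩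
    have h1 : ∀ f ∈ Submodule.span K' (M : Set F), ∃ z,
        (Groth.Agent.VarietyB.BCAlg.bc (incl (K' := K') M) z : F) = f := by
      intro f hf
      induction hf using Submodule.span_induction with
      | mem x hx => exact ⟨1 ⊗ₜ ⟨x, hx⟩, by
          rw [Groth.Agent.VarietyB.BCAlg.bc_tmul, one_smul]; rfl⟩
      | zero => exact ⟨0, by rw [map_zero]; rfl⟩
      | add x y _ _ hx hy =>
        obtain ⟨z, rfl⟩ := hx
        obtain ⟨z', rfl⟩ := hy
        exact ⟨z + z', by rw [map_add]; rfl⟩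
      | smul k x _ hx =>
        obtain ⟨z, rfl⟩ := hx
        exact ⟨k • z, by rw [map_smul]; rfl⟩
    obtain ⟨z, hz⟩ := h1 f hf
    exact ⟨z, Subtype.ext hz⟩

end K643.Rat
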