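import Groth.Agent.Neron.K643.Fun
import Groth.Agent.Sga7.H331.PB
import Groth.Agent.Ega2.AmpleTransfer

/-!
# Rational trivializations of invertible modules
-/

set_option autoImplicit false
set_option backward.isDefEq.respectTransparency false

universe u

open CategoryTheory CategoryTheory.Limits AlgebraicGeometry TopologicalSpace
open Groth.Agent Groth.Agent.Fdesc.LocGen Groth.Agent.Ega2.Nv Groth.Agent.Ega2.Ample
open Groth.Agent.Sga7.H331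

namespace K643.Rat

variable {X : Scheme.{u}} {F : Type u} [Field F]

/-- A rational trivialization of a module. -/
structure Triv (ξ : Spec (CommRingCat.of F) ⟶ X) (M : X.Modules) where
  /-- the value of a section -/
  r : ∀ {U : X.Opens} (_ : (⊤ : (Spec (CommRingCat.of F)).Opens) ≤ ξ ⁻¹ᵁ U), Γ(M, U) → F
  smul : ∀ {U : X.Opens} (h : (⊤ : (Spec (CommRingCat.of F)).Opens) ≤ ξ ⁻¹ᵁ U) (a : Γ(X, U))
    (m : Γ(M, U)), r h (a • m) = ev ξ h a * r h m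
  r_res : ∀ {U V : X.Opens} (h : (⊤ : (Spec (CommRingCat.of F)).Opens) ≤ ξ ⁻¹ᵁ V) (hV : V ≤ U)
    (m : Γ(M, U)), r h (res M hV m) = r (h.trans (ξ.preimage_mono hV)) m
  gen : ∀ {U : X.Opens} (h : (⊤ : (Spec (CommRingCat.of F)).Opens) ≤ ξ ⁻¹ᵁ U) (m : Γ(M, U)),
    IsGen m → r h m ≠ 0

namespace Triv

variable {ξ : Spec (CommRingCat.of F) ⟶ X} {M : X.Modules}

/-- The coefficient of a section with respect to a generator. -/
noncomputable def coef {W : X.Opens} {e : Γ(M, W)} (he : IsGen e) {U : X.Opens} (m : Γ(M, U)) :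
    Γ(X, U ⊓ W) :=
  ((he.res (inf_le_right : U ⊓ W ≤ W)).exists_eq (res M (inf_le_left : U ⊓ W ≤ U) m)).choose

theorem coef_spec {W : X.Opens} {e : Γ(M, W)} (he : IsGen e) {U : X.Opens} (m : Γ(M, U)) :
    res M (inf_le_left : U ⊓ W ≤ U) m = coef he m • res M (inf_le_right : U ⊓ W ≤ W) e :=
  ((he.res (inf_le_right : U ⊓ W ≤ W)).exists_eq (res M (inf_le_left : U ⊓ W ≤ U) m)).choose_spec

theorem coef_eq {W : X.Opens} {e : Γ(M, W)} (he : IsGen e) {U : X.Opens} (m : Γ(M, U))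
    (a : Γ(X, U ⊓ W)) (ha : res M (inf_le_left : U ⊓ W ≤ U) m = a • res M (inf_le_right : U ⊓ W ≤ W) e) :
    coef he m = a :=
  (he.res (inf_le_right : U ⊓ W ≤ W)).ext ((coef_spec he m).symm.trans ha)

/-- The trivialization given by a generator on a nonempty open. -/
noncomputable def ofGen {W : X.Opens} (hW : (⊤ : (Spec (CommRingCat.of F)).Opens) ≤ ξ ⁻¹ᵁ W)
    (e : Γ(M, W)) (he : IsGen e) (c : F) (hc : c ≠ 0) : Triv ξ M where
  r {U} h m := c * ev ξ (top_le_inf ξ h hW) (coef he m)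
  smul {U} h a m := by
    rw [coef_eq he (a • m) (ores (inf_le_left : U ⊓ W ≤ U) a * coef he m) (by
      rw [res_smul, coef_spec he m, smul_smul]), map_mul, ev_ores]
    ring
  r_res {U V} h hV m := by
    have hVW : V ⊓ W ≤ U ⊓ W := inf_le_inf_right W hV
    rw [coef_eq he (res M hV m) (ores hVW (coef he m)) (by
      have h3 := congrArg (res M hVW) (coef_spec he m)
      rw [res_smul, res_res, res_res] at h3
      rw [res_res, h3]), ev_ores]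
  gen {U} h m hm := by
    have h2 : IsGen (res M (inf_le_left : U ⊓ W ≤ U) m) := hm.res _
    rw [coef_spec he m] at h2
    exact mul_ne_zero hc (((he.res _).isUnit_of_smul h2).map (ev ξ (top_le_inf ξ h hW))).ne_zero

theorem ofGen_eq {W : X.Opens} (hW : (⊤ : (Spec (CommRingCat.of F)).Opens) ≤ ξ ⁻¹ᵁ W)
    (e : Γ(M, W)) (he : IsGen e) (c : F) (hc : c ≠ 0) {U : X.Opens}
    (h : (⊤ : (Spec (CommRingCat.of F)).Opens) ≤ ξ ⁻¹ᵁ U) (m : Γ(M, U)) (a : Γ(X, U ⊓ W))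
    (ha : res M (inf_le_left : U ⊓ W ≤ U) m = a • res M (inf_le_right : U ⊓ W ≤ W) e) :
    (ofGen hW e he c hc).r h m = c * ev ξ (top_le_inf ξ h hW) a := by
  change c * ev ξ _ (coef he m) = _
  rw [coef_eq he m a ha]

theorem nonempty [IsDominant ξ] (hM : PicF.IsInvertible M) : Nonempty (Triv ξ M) := by
  obtain ⟨W, e, hx, he⟩ := (isInvertible_iff M).mp hM (ξ (pt F))
  exact ⟨ofGen ((top_le_iff ξ).mpr hx) e he 1 one_ne_zero⟩

/-- Restriction of a trivialization along a morphism. -/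
noncomputable def comp {Y : Scheme.{u}} {υ : Spec (CommRingCat.of F) ⟶ Y} {h : Y ⟶ X} (e : υ ≫ h = ξ) {N : Y.Modules}
    (T : Triv υ N) (c : PB h M N) : Triv ξ M where
  r {U} hU m := T.r (U := h ⁻¹ᵁ U) (by rw [← e] at hU; exact hU) (c.c le_rfl m)
  smul {U} hU a m := by
    have hU' : (⊤ : (Spec (CommRingCat.of F)).Opens) ≤ υ ⁻¹ᵁ (h ⁻¹ᵁ U) := by
      rw [← e] at hU; exact hU
    rw [c.smul, T.smul, ev_map (e_id e) hU hU' le_rfl]
    rfl
  r_res {U V} hV hVU m := by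
    rw [c.c_res, ← c.res_c le_rfl (h.preimage_mono hVU), T.r_res]
  gen {U} hU m hm := T.gen _ _ (c.gen _ _ hm)

theorem comp_r {Y : Scheme.{u}} {υ : Spec (CommRingCat.of F) ⟶ Y} {h : Y ⟶ X} (e : υ ≫ h = ξ)
    {N : Y.Modules} (T : Triv υ N) (c : PB h M N) {U : X.Opens}
    (hU : (⊤ : (Spec (CommRingCat.of F)).Opens) ≤ ξ ⁻¹ᵁ U) (m : Γ(M, U)) {V : Y.Opens}
    (hV : (⊤ : (Spec (CommRingCat.of F)).Opens) ≤ υ ⁻¹ᵁ V) (hVU : V ≤ h ⁻¹ᵁ U) :
    (comp e T c).r hU m = T.r hV (c.c hVU m) := by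
  change T.r _ (c.c le_rfl m) = _
  rw [← c.res_c le_rfl hVU, T.r_res]

variable (T : Triv ξ M)

theorem r_eq {U V : X.Opens} (hU : (⊤ : (Spec (CommRingCat.of F)).Opens) ≤ ξ ⁻¹ᵁ U)
    (hV : (⊤ : (Spec (CommRingCat.of F)).Opens) ≤ ξ ⁻¹ᵁ V) (hVU : V ≤ U) (s : Γ(M, U)) (e : Γ(M, V))
    (a : Γ(X, V)) (ha : res M hVU s = a • e) : T.r hU s = ev ξ hV a * T.r hV e := by
  rw [← T.smul, ← ha, T.r_res]

theorem mem_reg {U V : X.Opens} (hU : (⊤ : (Spec (CommRingCat.of F)).Opens) ≤ ξ ⁻¹ᵁ U)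
    (hV : (⊤ : (Spec (CommRingCat.of F)).Opens) ≤ ξ ⁻¹ᵁ V) {x : X} (hx : x ∈ U) (hx' : x ∈ V)
    (s : Γ(M, U)) (e : Γ(M, V)) (he : IsGen e) : T.r hU s / T.r hV e ∈ Reg ξ x := by
  obtain ⟨a, ha⟩ := (he.res (inf_le_right : U ⊓ V ≤ V)).exists_eq (res M (inf_le_left : U ⊓ V ≤ U) s)
  rw [T.r_eq hU (top_le_inf ξ hU hV) inf_le_left s _ a ha, T.r_res,
    mul_div_cancel_right₀ _ (T.gen hV e he)]
  exact ev_mem (show x ∈ U ⊓ V from ⟨hx, hx'⟩) _ _

theorem unitAt_gen {U V : X.Opens} (hU : (⊤ : (Spec (CommRingCat.of F)).Opens) ≤ ξ ⁻¹ᵁ U)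
    (hV : (⊤ : (Spec (CommRingCat.of F)).Opens) ≤ ξ ⁻¹ᵁ V) {x : X} (hx : x ∈ U) (hx' : x ∈ V)
    (s : Γ(M, U)) (e : Γ(M, V)) (hs : IsGen s) (he : IsGen e) : UnitAt ξ x (T.r hU s / T.r hV e) :=
  ⟨div_ne_zero (T.gen hU s hs) (T.gen hV e he), T.mem_reg hU hV hx hx' s e he, by
    rw [inv_div]
    exact T.mem_reg hV hU hx' hx e s hs⟩

theorem unitAt_iff [IsIntegral X] [IsDominant ξ] {U V : X.Opens}
    (hU : (⊤ : (Spec (CommRingCat.of F)).Opens) ≤ ξ ⁻¹ᵁ U)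
    (hV : (⊤ : (Spec (CommRingCat.of F)).Opens) ≤ ξ ⁻¹ᵁ V) {x : X} (hx : x ∈ U) (hx' : x ∈ V)
    (s : Γ(M, U)) (e : Γ(M, V)) (he : IsGen e) :
    UnitAt ξ x (T.r hU s / T.r hV e) ↔ x ∈ nv M s := by
  obtain ⟨a, ha⟩ := (he.res (inf_le_right : U ⊓ V ≤ V)).exists_eq (res M (inf_le_left : U ⊓ V ≤ U) s)
  have h1 := nv_inf_of_eq_smul s (inf_le_left : U ⊓ V ≤ U) (he.res _) a ha
  rw [T.r_eq hU (top_le_inf ξ hU hV) inf_le_left s _ a ha, T.r_res,
    mul_div_cancel_right₀ _ (T.gen hV e he), unitAt_ev_iff ξ _ a (show x ∈ U ⊓ V from ⟨hx, hx'⟩), ← h1]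
  exact ⟨fun h => h.2, fun h => ⟨⟨hx, hx'⟩, h⟩⟩

/-- The divisor of a rational trivialization. -/
noncomputable def dv [IsDominant ξ] (hM : PicF.IsInvertible M) : Dv ξ where
  g x := T.r (top_le ξ ((isInvertible_iff M).mp hM x).choose_spec.choose_spec.1)
    ((isInvertible_iff M).mp hM x).choose_spec.choose
  ne x := T.gen _ _ ((isInvertible_iff M).mp hM x).choose_spec.choose_spec.2
  loc x := ⟨_, ((isInvertible_iff M).mp hM x).choose_spec.choose_spec.1, fun w hw =>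
    T.unitAt_gen _ _ ((isInvertible_iff M).mp hM w).choose_spec.choose_spec.1 hw _ _
      ((isInvertible_iff M).mp hM w).choose_spec.choose_spec.2
      ((isInvertible_iff M).mp hM x).choose_spec.choose_spec.2⟩

theorem unitAt_dv [IsDominant ξ] (hM : PicF.IsInvertible M) {U : X.Opens}
    (hU : (⊤ : (Spec (CommRingCat.of F)).Opens) ≤ ξ ⁻¹ᵁ U) {x : X} (hx : x ∈ U) (e : Γ(M, U))
    (he : IsGen e) : UnitAt ξ x (T.r hU e / (T.dv hM).g x) :=
  T.unitAt_gen _ _ hx ((isInvertible_iff M).mp hM x).choose_spec.choose_spec.1 _ _ he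
      ((isInvertible_iff M).mp hM x).choose_spec.choose_spec.2

/-- Trivializations of powers. -/
theorem exists_pow [IsDominant ξ] (hM : PicF.IsInvertible M) (n : ℕ) :
    ∃ T' : Triv ξ (CohB1.tensorPow M n), ∀ {U : X.Opens}
      (hU : (⊤ : (Spec (CommRingCat.of F)).Opens) ≤ ξ ⁻¹ᵁ U) (s : Γ(M, U)),
      T'.r hU (pow s n) = T.r hU s ^ n := by
  obtain ⟨W, e, hx, he⟩ := (isInvertible_iff M).mp hM (ξ (pt F))
  have hW := (top_le_iff ξ).mpr hx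
  refine ⟨ofGen hW (pow e n) (he.pow n) (T.r hW e ^ n) (pow_ne_zero n (T.gen hW e he)), ?_⟩
  intro U hU s
  obtain ⟨a, ha⟩ := (he.res (inf_le_right : U ⊓ W ≤ W)).exists_eq (res M (inf_le_left : U ⊓ W ≤ U) s)
  rw [ofGen_eq hW _ _ _ _ hU (pow s n) (a ^ n) (by rw [res_pow, res_pow, ha, smul_pow]), map_pow,
    T.r_eq hU (top_le_inf ξ hU hW) inf_le_left s _ a ha, T.r_res, mul_pow, mul_comm]

theorem exists_of_isAmple [IsIntegral X] [IsDominant ξ] (hL : CohB1.IsAmple M) (x : X) :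
    ∃ (n : ℕ) (f : F), ((T.dv hL.1).pow (n + 1)).IsSec f ∧ x ∈ ((T.dv hL.1).pow (n + 1)).nv f ∧
      IsAffineOpen (((T.dv hL.1).pow (n + 1)).nv f) := by
  obtain ⟨n, s, hs, hsa⟩ := hL.2.2 x
  rw [genLocus_eq_nv] at hs hsa
  obtain ⟨T', hT'⟩ := T.exists_pow hL.1 (n + 1)
  have key : ∀ y : X, ∃ (U : X.Opens) (hU : (⊤ : (Spec (CommRingCat.of F)).Opens) ≤ ξ ⁻¹ᵁ U)
      (e : Γ(CohB1.tensorPow M (n + 1), U)), y ∈ U ∧ IsGen e ∧
        T'.r hU e = ((T.dv hL.1).pow (n + 1)).g y := by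
    intro y
    let h := ((isInvertible_iff M).mp hL.1 y).choose_spec.choose_spec
    exact ⟨_, top_le ξ h.1, pow _ (n + 1), h.1, h.2.pow _, hT' _ _⟩
  refine ⟨n, T'.r le_top (sec s ⊤), fun y => ?_, ?_, ?_⟩
  · obtain ⟨U, hU, e, hy, he, hr⟩ := key y
    rw [← hr]
    exact T'.mem_reg _ hU (show y ∈ (⊤ : X.Opens) from trivial) hy _ _ he
  · obtain ⟨U, hU, e, hy, he, hr⟩ := key x
    rw [Dv.mem_nv, ← hr]
    exact (T'.unitAt_iff _ hU (show x ∈ (⊤ : X.Opens) from trivial) hy _ _ he).mpr hs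
  · have : ((T.dv hL.1).pow (n + 1)).nv (T'.r le_top (sec s ⊤)) =
        nv (CohB1.tensorPow M (n + 1)) (sec s ⊤) := by
      ext y
      obtain ⟨U, hU, e, hy, he, hr⟩ := key y
      rw [SetLike.mem_coe, SetLike.mem_coe, Dv.mem_nv, ← hr]
      exact T'.unitAt_iff _ hU (show y ∈ (⊤ : X.Opens) from trivial) hy _ _ he
    rw [this]
    exact hsa

end Triv

end K643.Rat
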