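import Groth.Agent.Neron.K643.Stab
import Mathlib.AlgebraicGeometry.Morphisms.Separated

/-!
# Stable affine charts defined over the small field
-/

set_option autoImplicit false
set_option backward.isDefEq.respectTransparency false
set_option linter.unusedSectionVars false

universe u

open CategoryTheory CategoryTheory.Limits AlgebraicGeometry TopologicalSpace
open Groth.Agent Groth.Agent.Fdesc.LocGen Groth.Agent.Fga.GenIso
open Groth.Agent.Sga7.H331

namespace K643.Rat

theorem isAffineOpen_inf_of_isSeparated {X S : Scheme.{u}} [IsAffine S] (f : X ⟶ S) [IsSeparated f]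
    {U V : X.Opens} (hU : IsAffineOpen U) (hV : IsAffineOpen V) : IsAffineOpen (U ⊓ V) :=
  (isAffineHom_diagonal_iff (f := f)).mp inferInstance ⊤ (isAffineOpen_top _) U (by simp) V (by simp)
    hU hV

theorem Dv.isAffineOpen_nv_prod {X S : Scheme.{u}} [IsAffine S] (q : X ⟶ S) [IsSeparated q]
    {F : Type u} [Field F] {ξ : Spec (CommRingCat.of F) ⟶ X} {ι : Type*} (T : Finset ι) (hT : T.Nonempty)
    (D : ι → Dv ξ) (f : ι → F) (h : ∀ i ∈ T, (D i).IsSec (f i))
    (ha : ∀ i ∈ T, IsAffineOpen ((D i).nv (f i))) : IsAffineOpen ((Dv.prod T D).nv (∏ i ∈ T, f i)) := by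
  classical
  induction T using Finset.induction_on with
  | empty => exact absurd hT Finset.not_nonempty_empty
  | insert a T has ih =>
    have h1 : (Dv.prod (insert a T) D).nv (∏ i ∈ insert a T, f i) =
        (D a).nv (f a) ⊓ (Dv.prod T D).nv (∏ i ∈ T, f i) := by
      rw [← Dv.nv_mul (h a (Finset.mem_insert_self _ _))
        (Dv.IsSec.prod T fun i hi => h i (Finset.mem_insert_of_mem hi)), Finset.prod_insert has]
      apply Dv.nv_congr
      intro x
      change UnitAt ξ x ((∏ i ∈ insert a T, (D i).g x) / ((D a).g x * ∏ i ∈ T, (D i).g x))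
      rw [Finset.prod_insert has, div_self (mul_ne_zero ((D a).ne x)
        (Finset.prod_ne_zero_iff.mpr fun i _ => (D i).ne x))]
      exact UnitAt.one
    rw [h1]
    rcases T.eq_empty_or_nonempty with rfl | hne
    · have h2 : (Dv.prod ∅ D).nv (∏ i ∈ (∅ : Finset ι), f i) = ⊤ := by
        ext x
        refine ⟨fun _ => trivial, fun _ => ?_⟩
        change UnitAt ξ x ((∏ i ∈ (∅ : Finset ι), f i) / ∏ i ∈ (∅ : Finset ι), (D i).g x)
        rw [Finset.prod_empty, Finset.prod_empty, div_one]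
        exact UnitAt.one
      rw [h2, inf_top_eq]
      exact ha a (Finset.mem_insert_self _ _)
    · exact isAffineOpen_inf_of_isSeparated q (ha a (Finset.mem_insert_self _ _))
        (ih hne (fun i hi => h i (Finset.mem_insert_of_mem hi))
          (fun i hi => ha i (Finset.mem_insert_of_mem hi)))

variable {R R' K K' : Type u} [CommRing R] [IsDomain R] [IsDiscreteValuationRing R]
  [CommRing R'] [IsDomain R'] [IsDiscreteValuationRing R'] [Algebra R R']
  [Field K] [Algebra R K] [IsFractionRing R K] [Field K'] [Algebra R' K'] [IsFractionRing R' K']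
  [Algebra K K'] [Algebra R K'] [IsScalarTower R K K'] [IsScalarTower R R' K']
  {E : Data R' K K'} (L : ∀ σ : R' ≃ₐ[R] R', E.Lift σ)
  {F : Type u} [Field F]
  {ξ : Spec (CommRingCat.of F) ⟶ E.X} {ζ : Spec (CommRingCat.of F) ⟶ E.A}

theorem Compat.pow_mul {D : Dv ξ} {DA : Dv ζ} {q : ℕ} (h : Compat D (DA.pow q)) (n : ℕ) :
    Compat (D.pow n) (DA.pow (q * n)) := by
  intro w
  change UnitAt ξ (E.j w) (D.g (E.j w) ^ n / DA.g (E.p w) ^ (q * n))
  rw [_root_.pow_mul, ← div_pow]
  exact (h w).pow n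

variable [Algebra K' F] [Algebra K F] [IsScalarTower K K' F]
  {υ : Spec (CommRingCat.of F) ⟶ E.P} [IsDominant ξ] [IsDominant υ] [IsDominant ζ]
  (hj : υ ≫ E.j = ξ) (hp : υ ≫ E.p = ζ)
  (hb : υ ≫ E.b = Spec.map (CommRingCat.ofHom (algebraMap K' F)))
  {s : (R' ≃ₐ[R] R') → F →+* F} (hs : ∀ σ, ξ ≫ (L σ).φ = Spec.map (CommRingCat.ofHom (s σ)) ≫ ξ)

include hj in
theorem Compat.reg_iff [IsOpenImmersion E.j] {D : Dv ξ} {DA : Dv ζ} (h : Compat D DA) {f : F} (w : E.P) :
    f / DA.g (E.p w) ∈ Reg υ w ↔ f / D.g (E.j w) ∈ Reg ξ (E.j w) := by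
  rw [reg_iff_of_isOpenImmersion hj]
  have h1 : f / DA.g (E.p w) = f / D.g (E.j w) * (D.g (E.j w) / DA.g (E.p w)) := by
    have := D.ne (E.j w)
    field_simp
  constructor
  · intro hf
    have h2 : f / D.g (E.j w) = f / DA.g (E.p w) * (D.g (E.j w) / DA.g (E.p w))⁻¹ := by
      rw [h1, mul_assoc, mul_inv_cancel₀ (h w).1, mul_one]
    rw [h2]
    exact mul_mem hf (h w).2.2
  · intro hf
    rw [h1]
    exact mul_mem hf (h w).2.1

include hj in
theorem Compat.unitAt_iff [IsOpenImmersion E.j] {D : Dv ξ} {DA : Dv ζ} (h : Compat D DA) {f : F} (w : E.P) :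
    UnitAt υ w (f / DA.g (E.p w)) ↔ UnitAt ξ (E.j w) (f / D.g (E.j w)) := by
  rw [unitAt_iff_of_isOpenImmersion hj]
  have h1 : f / DA.g (E.p w) = f / D.g (E.j w) * (D.g (E.j w) / DA.g (E.p w)) := by
    have := D.ne (E.j w)
    field_simp
  constructor
  · intro hf
    have h2 : f / D.g (E.j w) = f / DA.g (E.p w) * (D.g (E.j w) / DA.g (E.p w))⁻¹ := by
      rw [h1, mul_assoc, mul_inv_cancel₀ (h w).1, mul_one]
    rw [h2]
    exact hf.mul (h w).inv
  · intro hf
    rw [h1]
    exact hf.mul (h w)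

variable [IsIntegral E.X] [IsIntegral E.P] [IsIntegral E.A] [Smooth E.x] [IsSeparated E.x]
  [QuasiCompact E.x] [QuasiCompact E.a]

include hb hj hs in
theorem s_mem_span (M : Submodule K F) (hM : ∀ σ, ∀ f ∈ M, s σ f = f) (σ : R' ≃ₐ[R] R') {f : F}
    (hf : f ∈ Submodule.span K' (M : Set F)) : s σ f ∈ Submodule.span K' (M : Set F) := by
  induction hf using Submodule.span_induction with
  | mem x hx =>
    rw [hM σ x hx]
    exact Submodule.subset_span hx
  | zero => rw [map_zero]; exact Submodule.zero_mem _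
  | add x y _ _ hx hy => rw [map_add]; exact Submodule.add_mem _ hx hy
  | smul k x _ hx =>
    obtain ⟨a, b, hb', rfl⟩ := IsFractionRing.div_surjective (A := R') k
    rw [Algebra.smul_def, map_mul, map_div₀, map_div₀, s_algebraMap L hj hb hs,
      s_algebraMap L hj hb hs, ← map_div₀, ← Algebra.smul_def]
    exact Submodule.smul_mem _ _ hx

include hj hp hb hs in
/-- **COVER**: every point has a stable affine neighbourhood whose generic fibre is defined over `K`. -/
theorem exists_chart_dv (hF : ∀ f : F, f ∈ Reg ξ (ξ (pt F)))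
    (hunif : ∀ ϖ : R, Irreducible ϖ → Irreducible (algebraMap R R' ϖ)) (hfix : LD.FixedRes R R')
    (g : Dv ξ) (gA : Dv ζ) (hgA : ∀ x, gA.g x ∈ Reg ζ (ζ (pt F))) (hc : Compat g gA)
    (hamp : g.Amp) (hampA : gA.Amp) (y : E.X) : ∃ c : Data.Chart L, y ∈ c.U := by
  classical
  obtain ⟨ϖ, hϖ⟩ := IsDiscreteValuationRing.exists_irreducible R
  have hϖ' := hunif ϖ hϖ
  have hjo : IsOpenImmersion E.j :=
    MorphismProperty.of_isPullback (P := @IsOpenImmersion) E.hX.flip (isOpenImmersion_Spec R' K')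
  have hja : IsAffineHom E.j :=
    MorphismProperty.of_isPullback (P := @IsAffineHom) E.hX.flip inferInstance
  have hpa : IsAffineHom E.p :=
    MorphismProperty.of_isPullback (P := @IsAffineHom) E.hA.flip inferInstance
  have hAc : CompactSpace E.A := (quasiCompact_iff_compactSpace (f := E.a)).mp inferInstance
  have hXc : CompactSpace E.X := (quasiCompact_iff_compactSpace (f := E.x)).mp inferInstance
  have hbq : QuasiCompact E.b :=
    MorphismProperty.of_isPullback (P := @QuasiCompact) E.hA inferInstance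
  have hPc : CompactSpace E.P := (quasiCompact_iff_compactSpace (f := E.b)).mp inferInstance
  set π : Γ(E.X, ⊤) := Fga.DVRGeom.scal E.x (algebraMap R R' ϖ) with hπdef
  have hvl : vl ξ π = algebraMap K' F (algebraMap R' K' (algebraMap R R' ϖ)) := ev_scal_x hj hb _
  have hπ0 : vl ξ π ≠ 0 := by
    rw [hvl]
    exact (map_ne_zero _).mpr ((map_ne_zero_iff _ (IsFractionRing.injective R' K')).mpr hϖ'.ne_zero)
  have hjr : E.j.opensRange = E.X.basicOpen π := Fga.DVRGeom.opensRange_eq E.x E.hX hϖ'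
  clear_value π
  have hξa : ζ ≫ E.a = Spec.map (CommRingCat.ofHom (algebraMap K F)) := ξ_a E.hA hp hb
  -- a stable divisor
  obtain ⟨T, hTne, hstab⟩ := exists_stable L hj hp hb hs hF hunif g gA hgA hc
  set G := Dv.prod T fun τ => g.pull (hs τ) with hG
  have hGc : Compat G (gA.pow T.card) := Compat.prod T fun τ _ => Compat.pull L hj hp hs hc hgA τ
  -- a section with affine nonvanishing locus
  choose n₀ f₀ h₀1 h₀2 h₀3 using hamp
  obtain ⟨n, hn, f, hf⟩ := exists_common T (fun τ => n₀ ((L τ).φ y)) (fun τ => f₀ ((L τ).φ y))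
    (fun τ _ => h₀1 _)
  have hG' : ∀ x, UnitAt ξ x ((Dv.prod T fun τ => (g.pow n).pull (hs τ)).g x / (G.pow n).g x) := by
    intro x
    have h1 : (Dv.prod T fun τ => (g.pow n).pull (hs τ)).g x = (G.pow n).g x := by
      change ∏ τ ∈ T, s τ (g.g ((L τ).φ x) ^ n) = (∏ τ ∈ T, s τ (g.g ((L τ).φ x))) ^ n
      rw [← Finset.prod_pow]
      exact Finset.prod_congr rfl fun τ _ => map_pow _ _ _
    rw [h1, div_self ((G.pow n).ne x)]
    exact UnitAt.one
  have hsecT : ∀ τ ∈ T, ((g.pow n).pull (hs τ)).IsSec (s τ (f τ)) := fun τ hτ => (hf τ hτ).1.pull (hs τ)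
  have hnvT : ∀ τ ∈ T, ((g.pow n).pull (hs τ)).nv (s τ (f τ)) =
      (L τ).φ ⁻¹ᵁ ((g.pow (n₀ ((L τ).φ y) + 1)).nv (f₀ ((L τ).φ y))) := fun τ hτ => by
    rw [Dv.nv_pull (hs τ) (hf τ hτ).1, (hf τ hτ).2]
  have hfsec : (G.pow n).IsSec (∏ τ ∈ T, s τ (f τ)) := (Dv.IsSec.prod T hsecT).congr hG'
  have hfy : y ∈ (G.pow n).nv (∏ τ ∈ T, s τ (f τ)) := by
    rw [← Dv.nv_congr hG']
    refine Dv.mem_nv_prod T fun τ hτ => ?_
    rw [hnvT τ hτ]
    exact h₀2 _
  have hfa : IsAffineOpen ((G.pow n).nv (∏ τ ∈ T, s τ (f τ))) := by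
    rw [← Dv.nv_congr hG']
    refine Dv.isAffineOpen_nv_prod E.x T hTne _ _ hsecT fun τ hτ => ?_
    rw [hnvT τ hτ]
    have := Data.isIso_φ L τ
    exact (h₀3 _).preimage (L τ).φ
  set t := ∏ τ ∈ T, s τ (f τ) with ht
  clear_value t
  -- generation on the generic fibre
  obtain ⟨ι, _, m, d, hm, hd, hda, hdcov⟩ := hampA.exists_cover
  have hqn : 0 < T.card * n := Nat.mul_pos (Finset.card_pos.mpr hTne) hn
  have hcn := hGc.pow_mul n
  have hnvP : ((gA.pull (e_id hp)).pow (T.card * n)).nv t = E.j ⁻¹ᵁ ((G.pow n).nv t) := by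
    ext w
    exact hcn.unitAt_iff hj w
  obtain ⟨r, hr, hmem⟩ := exists_pow_mem E.hA hp hb gA hgA d hm hd hdcov hqn (t := t)
    (fun w => (hcn.reg_iff hj w).mpr (hfsec (E.j w))) (by
      rw [hnvP]
      exact hfa.preimage E.j) (by
      rw [hnvP]
      refine ⟨υ (pt F), ?_⟩
      have h1 := pt_mem ξ hfy
      have h0 : E.j (υ (pt F)) = ξ (pt F) := by rw [← hj, Scheme.Hom.comp_apply]
      change E.j (υ (pt F)) ∈ (G.pow n).nv t
      rw [h0]
      exact h1)
  have hfsec' := hfsec.pow_pow r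
  have hfnv' := Dv.nv_pow_pow hfsec hr
  have hcr : Compat (G.pow (n * r)) (gA.pow (T.card * n * r)) := by
    rw [mul_assoc]
    exact hGc.pow_mul (n * r)
  set N := n * r
  set N' := T.card * n * r
  let M : Submodule K F := Submodule.span K (gens gA d m N')
  have hMsec : ∀ f ∈ M, (gA.pow N').IsSec f ∧ IsAffineOpen ((gA.pow N').nv f) := fun f hf =>
    span_gens hξa gA d hm hd hda hf
  have hM0 : ∀ f ∈ M, f ∈ Reg ζ (ζ (pt F)) := fun f hf =>
    (hMsec f hf).1.mem_generic fun x => pow_mem (hgA x) _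
  have hMs : ∀ σ, ∀ f ∈ M, s σ f = f := fun σ f hf => s_eq L hj hp hs σ (hM0 f hf)
  let sM : (R' ≃ₐ[R] R') → (Submodule.span K' (M : Set F) →+ Submodule.span K' (M : Set F)) := fun σ =>
    { toFun := fun x => ⟨s σ x, s_mem_span L hj hb hs M hMs σ x.2⟩
      map_zero' := Subtype.ext (map_zero _)
      map_add' := fun x y => Subtype.ext (map_add _ _ _) }
  let B : Set (Submodule.span K' (M : Set F)) :=
    {x | (G.pow N).IsSec (x : F) ∧ IsAffineOpen ((G.pow N).nv (x : F))}
  have hstabN : ∀ σ x, UnitAt ξ x (((G.pow N).pull (hs σ)).g x / (G.pow N).g x) := by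
    intro σ x
    have h1 := (hstab σ x).pow N
    rw [div_pow] at h1
    have h2 : ((G.pow N).pull (hs σ)).g x = ((G.pull (hs σ)).g x) ^ N := map_pow _ _ _
    rw [h2]
    exact h1
  have hrsmul : ∀ (c : R') (f : F), algebraMap R' K' c • f = algebraMap K' F (algebraMap R' K' c) * f :=
    fun c f => Algebra.smul_def _ _
  -- extension of sections over `K`
  have hK : ∀ d' : M, ∃ c : R, c ≠ 0 ∧
      algebraMap R' K' (algebraMap R R' c) • incl (K' := K') M d' ∈ B := by
    intro d'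
    obtain ⟨hd1, hd2⟩ := hMsec d' d'.2
    let D1 : Dv ξ := ⟨fun _ => 1, fun _ => one_ne_zero, fun x => ⟨⊤, trivial, fun w _ => by
      rw [div_one]; exact UnitAt.one⟩⟩
    have hD1nv : ∀ x, x ∈ D1.nv (vl ξ π) ↔ x ∈ E.X.basicOpen π := fun x => by
      rw [mem_basicOpen_iff ξ π, Dv.mem_nv]
      change UnitAt ξ x (vl ξ π / 1) ↔ _
      rw [div_one]
    obtain ⟨l, hl⟩ := Dv.exists_ext (D := D1) (E := G.pow N) (t := vl ξ π) (fun x => by
      change vl ξ π / 1 ∈ _
      rw [div_one]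
      exact vl_mem ξ π x) (d' : F) (fun x hx => by
      rw [hD1nv, ← hjr] at hx
      obtain ⟨w, rfl⟩ := hx
      rw [← hcr.reg_iff hj w]
      exact reg_map (σ := RingHom.id F) (e_id hp) (hd1 (E.p w)))
    have hl' : ∀ k, l ≤ k → (G.pow N).IsSec (vl ξ π ^ k * d') := by
      intro k hk x
      have h1 := hl k hk x
      change (d' : F) * vl ξ π ^ k / ((G.pow N).g x * 1 ^ k) ∈ _ at h1
      rwa [one_pow, mul_one, mul_comm] at h1
    refine ⟨ϖ ^ (l + 1), pow_ne_zero _ hϖ.ne_zero, ?_⟩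
    have hval : ((algebraMap R' K' (algebraMap R R' (ϖ ^ (l + 1))) • incl (K' := K') M d' :
        Submodule.span K' (M : Set F)) : F) = vl ξ π ^ (l + 1) * d' := by
      change algebraMap R' K' (algebraMap R R' (ϖ ^ (l + 1))) • (d' : F) = _
      rw [hrsmul, map_pow, map_pow, map_pow, hvl]
    refine ⟨by rw [hval]; exact hl' _ (Nat.le_succ l), ?_⟩
    rw [hval]
    have hnv : (G.pow N).nv (vl ξ π ^ (l + 1) * d') = E.j ''ᵁ (E.p ⁻¹ᵁ ((gA.pow N').nv d')) := by
      ext x
      constructor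
      · intro hx
        have hx' : UnitAt ξ x (vl ξ π ^ (l + 1) * d' / (G.pow N).g x) := hx
        have h2 : vl ξ π ^ (l + 1) * d' / (G.pow N).g x = vl ξ π * (vl ξ π ^ l * d' / (G.pow N).g x) := by
          ring
        rw [h2] at hx'
        have h3 : x ∈ E.X.basicOpen π :=
          (mem_basicOpen_iff ξ π).mpr (hx'.of_mul_left (vl_mem ξ π x) (hl' l le_rfl x))
        have h4 := (mem_basicOpen_iff ξ π).mp h3
        rw [← hjr] at h3
        obtain ⟨w, rfl⟩ := h3
        refine ⟨w, ?_, rfl⟩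
        have h5 : UnitAt ξ (E.j w) (d' / (G.pow N).g (E.j w)) := by
          have h6 : (d' : F) / (G.pow N).g (E.j w) = (vl ξ π ^ (l + 1))⁻¹ *
              (vl ξ π ^ (l + 1) * d' / (G.pow N).g (E.j w)) := by
            have := (G.pow N).ne (E.j w)
            field_simp
          rw [h6]
          exact (h4.pow _).inv.mul hx
        exact (unitAt_map_iff (σ := RingHom.id F) (e_id hp) (hd1 (E.p w))).mp
          ((hcr.unitAt_iff hj w).mpr h5)
      · rintro ⟨w, hw, rfl⟩
        have h4 : UnitAt ξ (E.j w) (vl ξ π) := by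
          rw [← mem_basicOpen_iff, ← hjr]
          exact ⟨w, rfl⟩
        have h5 : UnitAt ξ (E.j w) (d' / (G.pow N).g (E.j w)) :=
          (hcr.unitAt_iff hj w).mp ((unitAt_map_iff (σ := RingHom.id F) (e_id hp) (hd1 (E.p w))).mpr hw)
        have h6 := (h4.pow (l + 1)).mul h5
        rwa [← mul_div_assoc] at h6
    rw [hnv]
    exact (hd2.preimage E.p).image_of_isOpenImmersion E.j
  -- descent
  obtain ⟨k, c, d', hd', hsum⟩ := LD.exists_sum hunif hfix (incl (K' := K') M)
    (bijective_incl E.hA hp hb M hM0) B ⟨Dv.IsSec.zero, Dv.isAffineOpen_nv_zero⟩ (by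
      rintro x ⟨hx1, hx2⟩ x' ⟨hx1', hx2'⟩
      exact ⟨hx1.add hx1', Dv.isAffineOpen_nv_add hx2 hx2' hx1 hx1'⟩) (by
      rintro c x ⟨hx1, hx2⟩
      have hc' : ∀ z, algebraMap K' F (algebraMap R' K' c) ∈ Reg ξ z := algebraMap_mem_x hj hb c
      refine ⟨?_, ?_⟩
      · change (G.pow N).IsSec (algebraMap R' K' c • (x : F))
        rw [hrsmul]
        exact hx1.smul hc'
      · change IsAffineOpen ((G.pow N).nv (algebraMap R' K' c • (x : F)))
        rw [hrsmul]
        exact Dv.isAffineOpen_nv_smul hc' hx1 hx2) sM (by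
      intro σ c x
      apply Subtype.ext
      change s σ (algebraMap R' K' c • (x : F)) = algebraMap R' K' (σ c) • s σ (x : F)
      rw [hrsmul, hrsmul, map_mul, s_algebraMap L hj hb hs]) (by
      intro σ d'
      exact Subtype.ext (hMs σ d' d'.2)) (by
      rintro σ x ⟨hx1, hx2⟩
      refine ⟨(hx1.pull (hs σ)).congr (hstabN σ), ?_⟩
      change IsAffineOpen ((G.pow N).nv (s σ (x : F)))
      rw [← Dv.nv_congr (hstabN σ), Dv.nv_pull (hs σ) hx1]
      have := Data.isIso_φ L σ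
      exact hx2.preimage (L σ).φ) hK ⟨t ^ r, hmem⟩ ⟨hfsec', by rw [hfnv']; exact hfa⟩
  have hsum' : t ^ r = ∑ i, algebraMap K' F (algebraMap R' K' (c i)) * (d' i : F) := by
    have h1 := congrArg Subtype.val hsum
    rw [AddSubmonoidClass.coe_finsetSum] at h1
    rw [← Finset.sum_congr rfl fun i _ => hrsmul (c i) (d' i : F)]
    exact h1
  have hy : UnitAt ξ y (t ^ r / (G.pow N).g y) := by
    have h1 : y ∈ (G.pow N).nv (t ^ r) := by
      rw [hfnv']
      exact hfy
    exact h1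
  rw [hsum', Finset.sum_div] at hy
  obtain ⟨i, -, hi⟩ := exists_unitAt_of_sum ξ Finset.univ _ (fun i _ => by
    rw [mul_div_assoc]
    exact mul_mem (algebraMap_mem_x hj hb _ y) ((hd' i).1 y)) hy
  rw [mul_div_assoc] at hi
  have hiy : y ∈ (G.pow N).nv (d' i) := hi.of_mul_right (algebraMap_mem_x hj hb _ y) ((hd' i).1 y)
  obtain ⟨hd1, hd2⟩ := hMsec (d' i) (d' i).2
  refine ⟨⟨(G.pow N).nv (d' i), (gA.pow N').nv (d' i), (hd' i).2, hd2, ⟨y, hiy⟩, ?_, fun σ => ?_⟩, hiy⟩
  · ext w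
    exact (unitAt_map_iff (σ := RingHom.id F) (e_id hp) (hd1 (E.p w))).symm.trans (hcr.unitAt_iff hj w)
  · have h1 : ((G.pow N).pull (hs σ)).nv (s σ (d' i : F)) = (L σ).φ ⁻¹ᵁ ((G.pow N).nv (d' i : F)) :=
      Dv.nv_pull (hs σ) (hd' i).1
    rw [hMs σ _ (d' i).2, Dv.nv_congr (hstabN σ)] at h1
    exact h1.le

end K643.Rat
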