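import Groth.Agent.Neron.K643.CovNP
import Groth.Agent.Neron.K643.Bridge
import Groth.Agent.Sga7.H331.CoverAmple

/-!
# Descent of a smooth scheme with an ample invertible module from `R'` to `R`, general case

`K643.DescAmple.exists_descent_of_isAmple`: as `Groth.Agent.Sga7.H331.Data.exists_descent_of_isAmple`, without
properness of the generic fibre and without irreducibility of the special fibre.
-/

set_option autoImplicit false
set_option backward.isDefEq.respectTransparency false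
set_option linter.unusedSectionVars false

universe u

open CategoryTheory CategoryTheory.Limits AlgebraicGeometry TopologicalSpace
open Groth.Agent Groth.Agent.Fdesc.LocGen Groth.Agent.Fga.GenIso Groth.Agent.Ega2.Ample
open Groth.Agent.Sga7.H331 K643.Rat

namespace K643.DescAmple

variable {R R' K K' : Type u} [CommRing R] [IsDomain R] [IsDiscreteValuationRing R]
  [CommRing R'] [IsDomain R'] [IsDiscreteValuationRing R'] [Algebra R R']
  [Field K] [Algebra R K] [IsFractionRing R K] [Field K'] [Algebra R' K'] [IsFractionRing R' K']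
  [Algebra K K'] [Algebra R K'] [IsScalarTower R K K'] [IsScalarTower R R' K']
  {E : Data R' K K'} (L : ∀ σ : R' ≃ₐ[R] R', E.Lift σ)

/-- **COVER**: every point of `X` has a stable affine neighbourhood whose generic fibre is defined over `K`. -/
theorem exists_chart (hunif : ∀ ϖ : R, Irreducible ϖ → Irreducible (algebraMap R R' ϖ))
    (hfix : LD.FixedRes R R') [IsIntegral E.X] [IsIntegral E.A] [Smooth E.x] [IsSeparated E.x]
    [QuasiCompact E.x] [QuasiCompact E.a]
    {L' : E.X.Modules} (hL' : CohB1.IsAmple L') {LA : E.A.Modules} (hLA : CohB1.IsAmple LA)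
    (e : (Scheme.Modules.pullback E.j).obj L' ≅ (Scheme.Modules.pullback E.p).obj LA) (y : E.X) :
    ∃ c : Data.Chart L, y ∈ c.U := by
  have hjo : IsOpenImmersion E.j :=
    MorphismProperty.of_isPullback (P := @IsOpenImmersion) E.hX.flip (isOpenImmersion_Spec R' K')
  have hjd : IsDominant E.j := isDominant_j
  have hPne : Nonempty E.P := hjd.denseRange.nonempty_iff.mpr ⟨y⟩
  have hPi : IsIntegral E.P := isIntegral_of_isOpenImmersion E.j
  obtain ⟨F, _, ξ, hξd, hξpt, hF, huniv⟩ := exists_generic E.X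
  have hrange : Set.range ξ ⊆ Set.range E.j := by
    rintro _ ⟨z, rfl⟩
    rw [eq_pt z]
    obtain ⟨w⟩ := hPne
    exact pt_mem ξ (U := E.j.opensRange) (x := E.j w) ⟨w, rfl⟩
  let υ : Spec (CommRingCat.of F) ⟶ E.P := IsOpenImmersion.lift E.j ξ hrange
  have hj : υ ≫ E.j = ξ := IsOpenImmersion.lift_fac E.j ξ hrange
  have hυd : IsDominant υ := by
    refine ⟨?_⟩
    rw [DenseRange, dense_iff_inter_open]
    rintro U hU ⟨w, hw⟩
    have h1 : ξ (pt F) ∈ E.j ''ᵁ ⟨U, hU⟩ := pt_mem ξ (x := E.j w) ⟨w, hw, rfl⟩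
    obtain ⟨w', hw', hw''⟩ := h1
    have h2 : E.j (υ (pt F)) = E.j w' := by
      rw [← Scheme.Hom.comp_apply, hj]
      exact hw''.symm
    refine ⟨υ (pt F), ?_, ⟨pt F, rfl⟩⟩
    rw [E.j.isOpenEmbedding.injective h2]
    exact hw'
  have hps : Surjective E.p := by
    have h1 : Surjective (Spec.map (CommRingCat.ofHom (algebraMap K K'))) := by
      refine ⟨fun z => ⟨pt K', ?_⟩⟩
      exact (eq_pt _).trans (eq_pt z).symm
    exact MorphismProperty.of_isPullback (P := @Surjective) E.hA.flip h1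
  have hζd : IsDominant (υ ≫ E.p) := inferInstance
  obtain ⟨ζ, hp⟩ : ∃ ζ, υ ≫ E.p = ζ := ⟨_, rfl⟩
  rw [hp] at hζd
  let _ : Algebra K' F := (Spec.preimage (υ ≫ E.b)).hom.toAlgebra
  let _ : Algebra K F := ((algebraMap K' F).comp (algebraMap K K')).toAlgebra
  have _ : IsScalarTower K K' F := IsScalarTower.of_algebraMap_eq fun _ => rfl
  have hb : υ ≫ E.b = Spec.map (CommRingCat.ofHom (algebraMap K' F)) := (Spec.map_preimage _).symm
  have hs : ∀ σ : R' ≃ₐ[R] R', ∃ s : F →+* F, ξ ≫ (L σ).φ = Spec.map (CommRingCat.ofHom s) ≫ ξ := by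
    intro σ
    refine huniv F _ (ξ ≫ (L σ).φ) ?_
    have := Data.isIso_φ L σ
    rw [Scheme.Hom.comp_apply, hξpt]
    exact genericPoint_eq_of_isOpenImmersion (L σ).φ
  choose s hs using hs
  -- the trivializations
  obtain ⟨V₀, e₀, hζV₀, he₀⟩ := (isInvertible_iff LA).mp hLA.1 (ζ (pt F))
  let N := (Scheme.Modules.pullback E.p).obj LA
  let cp : PB E.p LA N := PB.ofSec E.p LA
  let cj : PB E.j L' N := (PB.ofSec E.j L').ofIso e
  have hVζ : (⊤ : (Spec (CommRingCat.of F)).Opens) ≤ ζ ⁻¹ᵁ V₀ := (top_le_iff ζ).mpr hζV₀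
  have hVυ : (⊤ : (Spec (CommRingCat.of F)).Opens) ≤ υ ⁻¹ᵁ (E.p ⁻¹ᵁ V₀) := by
    rw [← hp] at hVζ
    exact hVζ
  let TP : Triv υ N := Triv.ofGen hVυ (cp.c le_rfl e₀) (cp.gen le_rfl e₀ he₀) 1 one_ne_zero
  let TA : Triv ζ LA := Triv.comp hp TP cp
  let TX : Triv ξ L' := Triv.comp hj TP cj
  have hTA1 : TA.r hVζ e₀ = 1 := by
    have h1 : TA.r hVζ e₀ = TP.r hVυ (cp.c le_rfl e₀) := Triv.comp_r hp TP cp hVζ e₀ hVυ le_rfl
    rw [h1]
    have h2 := Triv.ofGen_eq hVυ (cp.c le_rfl e₀) (cp.gen le_rfl e₀ he₀) 1 one_ne_zero hVυ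
      (cp.c le_rfl e₀) 1 (by rw [one_smul])
    refine h2.trans ?_
    rw [map_one, mul_one]
  have hTA : ∀ {U : E.A.Opens} (hU : (⊤ : (Spec (CommRingCat.of F)).Opens) ≤ ζ ⁻¹ᵁ U) (m : Γ(LA, U)),
      TA.r hU m ∈ Reg ζ (ζ (pt F)) := by
    intro U hU m
    obtain ⟨a, ha⟩ := (he₀.res (inf_le_right : U ⊓ V₀ ≤ V₀)).exists_eq
      (res LA (inf_le_left : U ⊓ V₀ ≤ U) m)
    rw [TA.r_eq hU (top_le_inf ζ hU hVζ) inf_le_left m _ a ha, TA.r_res, hTA1, mul_one]
    exact ev_mem (show ζ (pt F) ∈ U ⊓ V₀ from ⟨(top_le_iff ζ).mp hU, hζV₀⟩) _ _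
  have hc : Compat (TX.dv hL'.1) (TA.dv hLA.1) := by
    intro w
    let h1 := ((isInvertible_iff L').mp hL'.1 (E.j w)).choose_spec.choose_spec
    let h2 := ((isInvertible_iff LA).mp hLA.1 (E.p w)).choose_spec.choose_spec
    rw [← unitAt_iff_of_isOpenImmersion hj]
    have h3 : w ∈ E.j ⁻¹ᵁ ((isInvertible_iff L').mp hL'.1 (E.j w)).choose := h1.1
    have h4 : w ∈ E.p ⁻¹ᵁ ((isInvertible_iff LA).mp hLA.1 (E.p w)).choose := h2.1
    exact TP.unitAt_gen (top_le υ h3) (top_le υ h4) h3 h4 _ _ (cj.gen le_rfl _ h1.2)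
      (cp.gen le_rfl _ h2.2)
  exact exists_chart_dv L hj hp hb hs hF hunif hfix (TX.dv hL'.1) (TA.dv hLA.1)
    (fun x => hTA (top_le ζ ((isInvertible_iff LA).mp hLA.1 x).choose_spec.choose_spec.1) _) hc
    (fun x => TX.exists_of_isAmple hL' x) (fun x => TA.exists_of_isAmple hLA x) y

/-- **Descent of a smooth scheme with a compatible ample module.** -/
theorem exists_descent_of_isAmple (hunif : ∀ ϖ : R, Irreducible ϖ → Irreducible (algebraMap R R' ϖ))
    (hfix : LD.FixedRes R R') (hR' : EtCoh.IsStrictlyHenselianLocalRing R')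
    [IsIntegral E.X] [IsIntegral E.A] [Smooth E.x] [IsSeparated E.x] [QuasiCompact E.x]
    [IsSeparated E.a] [QuasiCompact E.a]
    {L' : E.X.Modules} (hL' : CohB1.IsAmple L') {LA : E.A.Modules} (hLA : CohB1.IsAmple LA)
    (e : (Scheme.Modules.pullback E.j).obj L' ≅ (Scheme.Modules.pullback E.p).obj LA)
    (L : ∀ σ : R' ≃ₐ[R] R', E.Lift σ) :
    ∃ (Y : Scheme.{u}) (y : Y ⟶ Spec (CommRingCat.of R)) (f : E.X ⟶ Y) (g : E.A ⟶ Y),
      IsPullback f E.x y (Spec.map (CommRingCat.ofHom (algebraMap R R'))) ∧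
      IsPullback g E.a y (Spec.map (CommRingCat.ofHom (algebraMap R K))) ∧ E.j ≫ f = E.p ≫ g :=
  Data.exists_descent hunif hfix hR' L (exists_chart L hunif hfix hL' hLA e)

end K643.DescAmple
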