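import Groth.Agent.Neron.K643.Rat
import Mathlib.Algebra.BigOperators.Field

/-!
# Divisors as families of local equations in a field of rational functions
-/

set_option autoImplicit false
set_option backward.isDefEq.respectTransparency false

universe u

open CategoryTheory CategoryTheory.Limits AlgebraicGeometry TopologicalSpace
open Groth.Agent.Fdesc.LocGen

namespace K643.Rat

variable {X : Scheme.{u}} {F : Type u} [Field F]

/-- A Cartier divisor: a locally constant (up to units) family of nonzero rational functions. -/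
structure Dv (ξ : Spec (CommRingCat.of F) ⟶ X) where
  /-- the local equations -/
  g : X → F
  ne : ∀ x, g x ≠ 0
  loc : ∀ x, ∃ W : X.Opens, x ∈ W ∧ ∀ w ∈ W, UnitAt ξ w (g w / g x)

namespace Dv

variable {ξ : Spec (CommRingCat.of F) ⟶ X} (D E : Dv ξ)

/-- The locus where `f` is a local generator. -/
def nv (f : F) : X.Opens where
  carrier := {x | UnitAt ξ x (f / D.g x)}
  is_open' := by
    rw [isOpen_iff_forall_mem_open]
    intro x hx
    obtain ⟨W, hxW, hW⟩ := D.loc x
    refine ⟨(W : Set X) ∩ {w | UnitAt ξ w (f / D.g x)}, ?_, W.2.inter (isOpen_unitAt ξ _), hxW, hx⟩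
    rintro w ⟨hw, hw'⟩
    have h1 := UnitAt.div hw' (hW w hw)
    have h2 : f / D.g x / (D.g w / D.g x) = f / D.g w := by
      have := D.ne x
      have := D.ne w
      field_simp
    rw [h2] at h1
    exact h1

theorem mem_nv {f : F} {x : X} : x ∈ D.nv f ↔ UnitAt ξ x (f / D.g x) := Iff.rfl

/-- Being a section. -/
def IsSec (f : F) : Prop := ∀ x, f / D.g x ∈ Reg ξ x

variable {D E}

theorem IsSec.zero : D.IsSec 0 := fun x => by rw [zero_div]; exact zero_mem _

theorem IsSec.add {f f' : F} (h : D.IsSec f) (h' : D.IsSec f') : D.IsSec (f + f') := fun x => by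
  rw [add_div]
  exact add_mem (h x) (h' x)

theorem IsSec.sum {ι : Type*} (s : Finset ι) (f : ι → F) (h : ∀ i ∈ s, D.IsSec (f i)) :
    D.IsSec (∑ i ∈ s, f i) := fun x => by
  rw [Finset.sum_div]
  exact sum_mem fun i hi => h i hi x

theorem IsSec.smul {c f : F} (hc : ∀ x, c ∈ Reg ξ x) (h : D.IsSec f) : D.IsSec (c * f) := fun x => by
  rw [mul_div_assoc]
  exact mul_mem (hc x) (h x)

theorem nv_congr (h : ∀ x, UnitAt ξ x (D.g x / E.g x)) (f : F) : D.nv f = E.nv f := by
  have key : ∀ x, f / D.g x * (D.g x / E.g x) = f / E.g x := fun x => by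
    have := D.ne x
    have := E.ne x
    field_simp
  ext x
  constructor
  · intro hx
    have h1 := UnitAt.mul hx (h x)
    rw [key] at h1
    exact h1
  · intro hx
    have h1 := UnitAt.mul hx (h x).inv
    have h2 : f / E.g x * (D.g x / E.g x)⁻¹ = f / D.g x := by
      have := D.ne x
      have := E.ne x
      field_simp
    rw [h2] at h1
    exact h1

theorem IsSec.congr (h : ∀ x, UnitAt ξ x (D.g x / E.g x)) {f : F} (hf : D.IsSec f) : E.IsSec f := by
  intro x
  have key : f / E.g x = f / D.g x * (D.g x / E.g x) := by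
    have := D.ne x
    have := E.ne x
    field_simp
  rw [key]
  exact mul_mem (hf x) (h x).2.1

variable (D E)

/-- The sum of two divisors. -/
def mul : Dv ξ where
  g x := D.g x * E.g x
  ne x := mul_ne_zero (D.ne x) (E.ne x)
  loc x := by
    obtain ⟨W, hx, hW⟩ := D.loc x
    obtain ⟨W', hx', hW'⟩ := E.loc x
    refine ⟨W ⊓ W', ⟨hx, hx'⟩, fun w hw => ?_⟩
    have h := (hW w hw.1).mul (hW' w hw.2)
    rwa [div_mul_div_comm] at h

/-- Multiples of a divisor. -/
def pow (n : ℕ) : Dv ξ where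
  g x := D.g x ^ n
  ne x := pow_ne_zero n (D.ne x)
  loc x := by
    obtain ⟨W, hx, hW⟩ := D.loc x
    refine ⟨W, hx, fun w hw => ?_⟩
    have h := (hW w hw).pow n
    rwa [div_pow] at h

/-- Finite sums of divisors. -/
def prod {ι : Type*} (s : Finset ι) (D : ι → Dv ξ) : Dv ξ where
  g x := ∏ i ∈ s, (D i).g x
  ne x := Finset.prod_ne_zero_iff.mpr fun i _ => (D i).ne x
  loc x := by
    classical
    choose W hx hW using fun i => (D i).loc x
    refine ⟨s.inf W, ?_, fun w hw => ?_⟩
    · rw [← SetLike.mem_coe, Opens.coe_finset_inf, Finset.inf_set_eq_iInter]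
      exact Set.mem_iInter₂.mpr fun i _ => hx i
    · rw [← SetLike.mem_coe, Opens.coe_finset_inf, Finset.inf_set_eq_iInter] at hw
      rw [← Finset.prod_div_distrib]
      exact UnitAt.prod s _ fun i hi => hW i w (Set.mem_iInter₂.mp hw i hi)

variable {D E}

theorem IsSec.mul {f f' : F} (h : D.IsSec f) (h' : E.IsSec f') : (D.mul E).IsSec (f * f') := by
  intro x
  change f * f' / (D.g x * E.g x) ∈ _
  rw [← div_mul_div_comm]
  exact mul_mem (h x) (h' x)

theorem IsSec.pow {f : F} (h : D.IsSec f) (n : ℕ) : (D.pow n).IsSec (f ^ n) := by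
  intro x
  change f ^ n / D.g x ^ n ∈ _
  rw [← div_pow]
  exact pow_mem (h x) n

theorem IsSec.prod {ι : Type*} (s : Finset ι) {D : ι → Dv ξ} {f : ι → F} (h : ∀ i ∈ s, (D i).IsSec (f i)) :
    (Dv.prod s D).IsSec (∏ i ∈ s, f i) := by
  intro x
  change (∏ i ∈ s, f i) / (∏ i ∈ s, (D i).g x) ∈ _
  rw [← Finset.prod_div_distrib]
  exact prod_mem fun i hi => h i hi x

theorem IsSec.pow_mul {m n : ℕ} {f f' : F} (h : (D.pow m).IsSec f) (h' : (D.pow n).IsSec f') :
    (D.pow (m + n)).IsSec (f * f') := by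
  intro x
  change f * f' / (D.g x ^ (m + n)) ∈ _
  rw [pow_add, ← div_mul_div_comm]
  exact mul_mem (h x) (h' x)

theorem IsSec.pow_pow {m : ℕ} {f : F} (h : (D.pow m).IsSec f) (n : ℕ) : (D.pow (m * n)).IsSec (f ^ n) := by
  intro x
  change f ^ n / (D.g x ^ (m * n)) ∈ _
  rw [_root_.pow_mul, ← div_pow]
  exact pow_mem (h x) n

theorem nv_mul {f f' : F} (h : D.IsSec f) (h' : E.IsSec f') :
    (D.mul E).nv (f * f') = D.nv f ⊓ E.nv f' := by
  ext x
  have key : f * f' / (D.g x * E.g x) = (f / D.g x) * (f' / E.g x) := (div_mul_div_comm _ _ _ _).symm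
  constructor
  · intro hx
    have hx' : UnitAt ξ x (f * f' / (D.g x * E.g x)) := hx
    rw [key] at hx'
    exact ⟨hx'.of_mul_left (h x) (h' x), hx'.of_mul_right (h x) (h' x)⟩
  · rintro ⟨h1, h2⟩
    change UnitAt ξ x (f * f' / (D.g x * E.g x))
    rw [key]
    exact UnitAt.mul h1 h2

theorem _root_.K643.Rat.UnitAt.of_pow {x : X} {f : F} (hf : f ∈ Reg ξ x) {n : ℕ} (hn : 0 < n)
    (h : UnitAt ξ x (f ^ n)) : UnitAt ξ x f := by
  obtain ⟨m, rfl⟩ := Nat.exists_eq_succ_of_ne_zero hn.ne'
  rw [Nat.succ_eq_add_one, pow_succ] at h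
  exact h.of_mul_right (pow_mem hf m) hf

theorem nv_pow {f : F} (h : D.IsSec f) {n : ℕ} (hn : 0 < n) : (D.pow n).nv (f ^ n) = D.nv f := by
  ext x
  have key : f ^ n / D.g x ^ n = (f / D.g x) ^ n := (div_pow _ _ _).symm
  constructor
  · intro hx
    have hx' : UnitAt ξ x (f ^ n / D.g x ^ n) := hx
    rw [key] at hx'
    exact hx'.of_pow (h x) hn
  · intro h1
    change UnitAt ξ x (f ^ n / D.g x ^ n)
    rw [key]
    exact UnitAt.pow h1 n

theorem nv_pow_pow {m : ℕ} {f : F} (h : (D.pow m).IsSec f) {n : ℕ} (hn : 0 < n) :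
    (D.pow (m * n)).nv (f ^ n) = (D.pow m).nv f := by
  rw [← nv_pow h hn]
  apply nv_congr
  intro x
  change UnitAt ξ x (D.g x ^ (m * n) / (D.g x ^ m) ^ n)
  rw [← pow_mul, div_self (pow_ne_zero _ (D.ne x))]
  exact UnitAt.one

theorem nv_pow_mul {m n : ℕ} {f f' : F} (h : (D.pow m).IsSec f) (h' : (D.pow n).IsSec f') :
    (D.pow (m + n)).nv (f * f') = (D.pow m).nv f ⊓ (D.pow n).nv f' := by
  rw [← nv_mul h h']
  apply nv_congr
  intro x
  change UnitAt ξ x (D.g x ^ (m + n) / (D.g x ^ m * D.g x ^ n))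
  rw [← pow_add, div_self (pow_ne_zero _ (D.ne x))]
  exact UnitAt.one

theorem mem_nv_prod {ι : Type*} (s : Finset ι) {D : ι → Dv ξ} {f : ι → F} {x : X}
    (h : ∀ i ∈ s, x ∈ (D i).nv (f i)) : x ∈ (Dv.prod s D).nv (∏ i ∈ s, f i) := by
  change UnitAt ξ x ((∏ i ∈ s, f i) / (∏ i ∈ s, (D i).g x))
  rw [← Finset.prod_div_distrib]
  exact UnitAt.prod s _ h

theorem nv_le_of_prod {ι : Type*} (s : Finset ι) {D : ι → Dv ξ} {f : ι → F}
    (hf : ∀ i ∈ s, (D i).IsSec (f i)) {i : ι} (hi : i ∈ s) :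
    (Dv.prod s D).nv (∏ i ∈ s, f i) ≤ (D i).nv (f i) := by
  classical
  intro x hx
  have hx' : UnitAt ξ x ((∏ i ∈ s, f i) / (∏ i ∈ s, (D i).g x)) := hx
  rw [← Finset.prod_div_distrib, ← Finset.mul_prod_erase _ _ hi] at hx'
  exact hx'.of_mul_left (hf i hi x) (prod_mem fun j hj => hf j (Finset.mem_of_mem_erase hj) x)

section affine

variable [IsIntegral X] [IsDominant ξ]

/-- Sums of sections with affine nonvanishing locus. -/
theorem isAffineOpen_nv_add {f f' : F} (ha : IsAffineOpen (D.nv f)) (ha' : IsAffineOpen (D.nv f'))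
    (h : D.IsSec f) (h' : D.IsSec f') : IsAffineOpen (D.nv (f + f')) := by
  by_cases hne : ((D.nv (f + f') : X.Opens) : Set X).Nonempty
  · obtain ⟨x₀, hx₀⟩ := hne
    have hs0 : f + f' ≠ 0 := fun h0 => hx₀.1 (by rw [h0, zero_div])
    have hU := top_le ξ hx₀
    have key : ∀ (k : F), D.IsSec k → ∀ x ∈ D.nv (f + f'), k / (f + f') ∈ Reg ξ x := by
      intro k hk x hx
      have h1 : k / (f + f') = k / D.g x * ((f + f') / D.g x)⁻¹ := by
        have := D.ne x
        field_simp
      rw [h1]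
      exact mul_mem (hk x) hx.2.2
    obtain ⟨a, ha1⟩ := exists_section ξ hU _ (key f h)
    obtain ⟨b, hb1⟩ := exists_section ξ hU _ (key f' h')
    have hab : a + b = 1 := by
      apply ev_injective ξ hU
      rw [map_add, ha1, hb1, ← add_div, div_self hs0, map_one]
    have key2 : ∀ (k : F) (c : Γ(X, D.nv (f + f'))), D.IsSec k → IsAffineOpen (D.nv k) →
        ev ξ hU c = k / (f + f') → IsAffineOpen (X.basicOpen c) := by
      intro k c hk hka hc
      by_cases hk0 : k = 0
      · have : c = 0 := by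
          apply ev_injective ξ hU
          rw [hc, hk0, zero_div, map_zero]
        rw [this, Scheme.basicOpen_zero]
        exact isAffineOpen_bot X
      refine isAffineOpen_inf ξ hka ((f + f') / k) (fun x hx => ?_) _ (fun x => ?_)
      · have h1 : (f + f') / k = (f + f') / D.g x * (k / D.g x)⁻¹ := by
          have := D.ne x
          field_simp
        rw [h1]
        exact mul_mem ((h.add h') x) hx.2.2
      · constructor
        · intro hx
          have hxU : x ∈ D.nv (f + f') := X.basicOpen_le c hx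
          have h1 := (unitAt_ev_iff ξ hU c hxU).mpr hx
          rw [hc] at h1
          refine ⟨?_, ?_⟩
          · have h2 := h1.mul hxU
            have h3 : k / (f + f') * ((f + f') / D.g x) = k / D.g x := by
              have := D.ne x
              field_simp
            rw [h3] at h2
            exact h2
          · have h2 := h1.inv
            rwa [inv_div] at h2
        · rintro ⟨hxk, h1⟩
          have hxU : x ∈ D.nv (f + f') := by
            have h2 := h1.mul hxk
            have h3 : (f + f') / k * (k / D.g x) = (f + f') / D.g x := by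
              have := D.ne x
              field_simp
            rw [h3] at h2
            exact h2
          rw [← unitAt_ev_iff ξ hU c hxU, hc, ← inv_div]
          exact h1.inv
    refine isAffineOpen_of_isAffineOpen_basicOpen _ {a, b} ?_ ?_
    · rw [Ideal.eq_top_iff_one, Ideal.mem_span_pair]
      exact ⟨1, 1, by rw [one_mul, one_mul, hab]⟩
    · rintro c (rfl | rfl)
      · exact key2 f _ h ha ha1
      · exact key2 f' _ h' ha' hb1
  · have : D.nv (f + f') = ⊥ := by
      ext1
      exact Set.not_nonempty_iff_eq_empty.mp hne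
    rw [this]
    exact isAffineOpen_bot X

omit [IsIntegral X] [IsDominant ξ] in
theorem nv_zero : D.nv (0 : F) = ⊥ := by
  ext x
  constructor
  · intro hx
    exact (hx.1 (zero_div _)).elim
  · intro hx
    exact hx.elim

omit [IsIntegral X] [IsDominant ξ] in
theorem isAffineOpen_nv_zero : IsAffineOpen (D.nv (0 : F)) := by
  rw [nv_zero]
  exact isAffineOpen_bot X

theorem isAffineOpen_nv_sum {ι : Type*} (s : Finset ι) (f : ι → F) (h : ∀ i ∈ s, D.IsSec (f i))
    (ha : ∀ i ∈ s, IsAffineOpen (D.nv (f i))) : IsAffineOpen (D.nv (∑ i ∈ s, f i)) := by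
  classical
  induction s using Finset.induction_on with
  | empty => rw [Finset.sum_empty]; exact isAffineOpen_nv_zero
  | insert a s has ih =>
    rw [Finset.sum_insert has]
    refine isAffineOpen_nv_add (ha a (Finset.mem_insert_self _ _))
      (ih (fun i hi => h i (Finset.mem_insert_of_mem hi)) (fun i hi => ha i (Finset.mem_insert_of_mem hi)))
      (h a (Finset.mem_insert_self _ _)) (IsSec.sum s f fun i hi => h i (Finset.mem_insert_of_mem hi))

theorem isAffineOpen_nv_smul {c f : F} (hc : ∀ x, c ∈ Reg ξ x) (h : D.IsSec f)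
    (ha : IsAffineOpen (D.nv f)) : IsAffineOpen (D.nv (c * f)) := by
  refine isAffineOpen_inf ξ ha c (fun x _ => hc x) _ (fun x => ?_)
  rw [mem_nv, mem_nv, mul_div_assoc]
  constructor
  · intro h1
    exact ⟨h1.of_mul_right (hc x) (h x), h1.of_mul_left (hc x) (h x)⟩
  · rintro ⟨h1, h2⟩
    exact h2.mul h1

/-- Intersection with the nonvanishing locus of a section of another multiple. -/
theorem isAffineOpen_inf_nv {m k : ℕ} (hm : 0 < m) {d h : F} (ha : IsAffineOpen ((D.pow m).nv d))
    (hh : (D.pow k).IsSec h) : IsAffineOpen ((D.pow m).nv d ⊓ (D.pow k).nv h) := by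
  have key : ∀ x, d ≠ 0 → h ^ m / d ^ k = (h / D.g x ^ k) ^ m * ((d / D.g x ^ m)⁻¹) ^ k := by
    intro x hd
    have := D.ne x
    rw [inv_div, div_pow, div_pow, ← pow_mul, ← pow_mul, mul_comm k m]
    field_simp
  refine isAffineOpen_inf ξ ha (h ^ m / d ^ k) (fun x hx => ?_) _ (fun x => ?_)
  · have hd : d ≠ 0 := fun h0 => hx.1 (by rw [h0, zero_div])
    rw [key x hd]
    exact mul_mem (pow_mem (hh x) m) (pow_mem hx.2.2 k)
  · constructor
    · rintro ⟨h1, h2⟩
      have hd : d ≠ 0 := fun h0 => h1.1 (by rw [h0, zero_div])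
      refine ⟨h1, ?_⟩
      rw [key x hd]
      exact (UnitAt.pow h2 m).mul ((UnitAt.inv h1).pow k)
    · rintro ⟨h1, h2⟩
      have hd : d ≠ 0 := fun h0 => h1.1 (by rw [h0, zero_div])
      refine ⟨h1, ?_⟩
      rw [key x hd] at h2
      have h3 := h2.mul (UnitAt.pow h1 k)
      have h4 : (h / D.g x ^ k) ^ m * (d / D.g x ^ m)⁻¹ ^ k * (d / (D.pow m).g x) ^ k =
          (h / D.g x ^ k) ^ m := by
        change _ * _ * (d / D.g x ^ m) ^ k = _
        have hne : (d / D.g x ^ m) ^ k ≠ 0 := pow_ne_zero _ (div_ne_zero hd ((D.pow m).ne x))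
        rw [inv_pow, inv_mul_cancel_right₀ hne]
      rw [h4] at h3
      exact h3.of_pow (hh x) hm

end affine

/-- Extension of sections from the nonvanishing locus of a section. -/
theorem exists_ext [IsIntegral X] [IsDominant ξ] [CompactSpace X] {t : F} (ht : D.IsSec t) (u : F)
    (hu : ∀ x ∈ D.nv t, u / E.g x ∈ Reg ξ x) :
    ∃ l₀ : ℕ, ∀ l, l₀ ≤ l → (E.mul (D.pow l)).IsSec (u * t ^ l) := by
  have h1 : ∀ x : X, ∃ (W : X.Opens) (n : ℕ), x ∈ W ∧ ∀ l, n ≤ l → ∀ w ∈ W,
      u * t ^ l / (E.g w * D.g w ^ l) ∈ Reg ξ w := by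
    intro x
    obtain ⟨W₁, hx₁, hW₁⟩ := D.loc x
    obtain ⟨W₂, hx₂, hW₂⟩ := E.loc x
    obtain ⟨W, hW, hxW, hWle⟩ := exists_isAffineOpen_mem_and_subset (U := W₁ ⊓ W₂) ⟨hx₁, hx₂⟩
    have hWt := top_le ξ hxW
    by_cases ht0 : t = 0
    · refine ⟨W, 1, hxW, fun l hl w hw => ?_⟩
      rw [ht0, zero_pow (by omega), mul_zero, zero_div]
      exact zero_mem _
    have hreg : ∀ w ∈ W, t / D.g x ∈ Reg ξ w := by
      intro w hw
      have h2 : t / D.g x = t / D.g w * (D.g w / D.g x) := by
        have := D.ne w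
        field_simp
      rw [h2]
      exact mul_mem (ht w) (hW₁ w (hWle hw).1).2.1
    obtain ⟨a, ha⟩ := exists_section ξ hWt _ hreg
    have ha0 : a ≠ 0 := by
      intro h0
      rw [h0, map_zero] at ha
      exact div_ne_zero ht0 (D.ne x) ha.symm
    obtain ⟨z, hz⟩ : ((X.basicOpen a : X.Opens) : Set X).Nonempty := by
      rw [Set.nonempty_iff_ne_empty]
      intro h0
      apply ha0
      rw [← basicOpen_eq_bot_iff]
      ext1
      exact h0
    have hzt := top_le ξ hz
    have hmem : ∀ w ∈ W, (w ∈ X.basicOpen a ↔ w ∈ D.nv t) := by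
      intro w hw
      rw [← unitAt_ev_iff ξ hWt a hw, ha, mem_nv]
      constructor
      · intro h3
        have h4 := h3.div (hW₁ w (hWle hw).1)
        have h5 : t / D.g x / (D.g w / D.g x) = t / D.g w := by
          have := D.ne w
          have := D.ne x
          field_simp
        rwa [h5] at h4
      · intro h3
        have h4 := h3.mul (hW₁ w (hWle hw).1)
        have h5 : t / D.g w * (D.g w / D.g x) = t / D.g x := by
          have := D.ne w
          have := D.ne x
          field_simp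
        rwa [h5] at h4
    obtain ⟨b, hb⟩ := exists_section ξ hzt (u / E.g x) (by
      intro w hw
      have hwW := X.basicOpen_le a hw
      have h2 : u / E.g x = u / E.g w * (E.g w / E.g x) := by
        have := E.ne w
        field_simp
      rw [h2]
      exact mul_mem (hu w ((hmem w hwW).mp hw)) (hW₂ w (hWle hwW).2).2.1)
    obtain ⟨n, y, hy⟩ := exists_eq_pow_mul_of_isAffineOpen X W hW a b
    have hy' : ores (X.basicOpen_le a) y = ores (X.basicOpen_le a) a ^ n * b := hy
    have hev : ev ξ hWt y = (t / D.g x) ^ n * (u / E.g x) := by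
      have h3 := congr(ev ξ hzt $hy')
      rwa [map_mul, map_pow, ev_ores, ev_ores, ha, hb] at h3
    refine ⟨W, n, hxW, fun l hl w hw => ?_⟩
    have h6 : u * t ^ l / (E.g w * D.g w ^ l) = (t / D.g x) ^ (l - n) * ev ξ hWt y *
        (D.g w / D.g x)⁻¹ ^ l * (E.g w / E.g x)⁻¹ := by
      obtain ⟨k, rfl⟩ := Nat.exists_eq_add_of_le hl
      have := D.ne w
      have := D.ne x
      have := E.ne w
      have := E.ne x
      rw [hev, Nat.add_sub_cancel_left]
      simp only [div_pow, inv_div]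
      field_simp
      ring
    rw [h6]
    exact mul_mem (mul_mem (mul_mem (pow_mem (hreg w hw) _) (ev_mem hw _ _))
      (pow_mem (hW₁ w (hWle hw).1).2.2 _)) (hW₂ w (hWle hw).2).2.2
  choose W n hxW hW using h1
  obtain ⟨s, hs⟩ := (isCompact_univ : IsCompact (Set.univ : Set X)).elim_finite_subcover
    (fun x => (W x : Set X)) (fun x => (W x).2) (fun x _ => Set.mem_iUnion.mpr ⟨x, hxW x⟩)
  refine ⟨s.sup n, fun l hl x => ?_⟩
  obtain ⟨y, hy, hxy⟩ := Set.mem_iUnion₂.mp (hs (Set.mem_univ x))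
  exact hW y l ((Finset.le_sup hy).trans hl) x hxy

end Dv

/-- Partition of unity on an affine open. -/
theorem exists_one_eq_sum [IsIntegral X] {ξ : Spec (CommRingCat.of F) ⟶ X} [IsDominant ξ] {U : X.Opens}
    (hU : IsAffineOpen U) {ι : Type*} [Finite ι] (a : ι → F) (ha : ∀ i, ∀ x ∈ U, a i ∈ Reg ξ x)
    (hcov : ∀ x ∈ U, ∃ i, UnitAt ξ x (a i)) (hne : (U : Set X).Nonempty) :
    ∃ b : ι → F, (∀ i, ∀ x ∈ U, b i ∈ Reg ξ x) ∧ ∑ᶠ i, b i * a i = 1 := by
  have _ := Fintype.ofFinite ι
  obtain ⟨x, hx⟩ := hne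
  have hUt := top_le ξ hx
  choose α hα using fun i => exists_section ξ hUt (a i) (ha i)
  have h1 : Ideal.span (Set.range α) = ⊤ := by
    rw [← hU.self_le_iSup_basicOpen_iff]
    intro y hy
    obtain ⟨i, hi⟩ := hcov y hy
    rw [← hα i, unitAt_ev_iff ξ hUt _ hy] at hi
    exact Opens.mem_iSup.mpr ⟨⟨α i, i, rfl⟩, hi⟩
  obtain ⟨β, hβ⟩ := Ideal.mem_span_range_iff_exists_fun.mp ((Ideal.eq_top_iff_one _).mp h1)
  refine ⟨fun i => ev ξ hUt (β i), fun i y hy => ev_mem hy _ _, ?_⟩
  rw [finsum_eq_sum_of_fintype, ← map_one (ev ξ hUt), ← hβ, map_sum]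
  refine Finset.sum_congr rfl fun i _ => ?_
  rw [map_mul, hα]

end K643.Rat
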