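import Groth.Agent.Neron.K643.Fun
import Mathlib.AlgebraicGeometry.Stalk

/-!
# The generic point of an integral scheme
-/

set_option autoImplicit false
set_option backward.isDefEq.respectTransparency false

universe u

open CategoryTheory CategoryTheory.Limits AlgebraicGeometry TopologicalSpace
open Groth.Agent.Fdesc.LocGen

namespace K643.Rat

theorem exists_of_pt_eq {F' : Type u} [Field F'] {X : Scheme.{u}} (τ : Spec (CommRingCat.of F') ⟶ X)
    (x : X) (h : τ (pt F') = x) : ∃ s : X.presheaf.stalk x ⟶ CommRingCat.of F',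
      Spec.map s ≫ X.fromSpecStalk x = τ := by
  subst h
  exact ⟨_, Scheme.Spec_stalkClosedPointTo_fromSpecStalk τ⟩

theorem appLE_fromSpecStalk (X : Scheme.{u}) (x : X) {U : X.Opens} (hU : x ∈ U)
    (h : (⊤ : (Spec (X.presheaf.stalk x)).Opens) ≤ X.fromSpecStalk x ⁻¹ᵁ U) :
    (X.fromSpecStalk x).appLE U ⊤ h ≫ (Scheme.ΓSpecIso (X.presheaf.stalk x)).hom =
      X.presheaf.germ U x hU := by
  rw [Scheme.Hom.appLE, Scheme.fromSpecStalk_app hU]
  have h1 : (Spec (X.presheaf.stalk x)).presheaf.map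
      (homOfLE (le_top : X.fromSpecStalk x ⁻¹ᵁ U ≤ ⊤)).op ≫
      (Spec (X.presheaf.stalk x)).presheaf.map (homOfLE h).op = 𝟙 _ := by
    rw [← Functor.map_comp]
    exact (Spec (X.presheaf.stalk x)).presheaf.map_id _
  rw [Category.assoc, Category.assoc, Category.assoc, reassoc_of% h1, Iso.inv_hom_id, Category.comp_id]

/-- The generic point as a morphism. -/
theorem exists_generic (X : Scheme.{u}) [IsIntegral X] :
    ∃ (F : Type u) (_ : Field F) (ξ : Spec (CommRingCat.of F) ⟶ X), IsDominant ξ ∧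
      ξ (pt F) = genericPoint X ∧ (∀ f : F, f ∈ Reg ξ (ξ (pt F))) ∧
      ∀ (F' : Type u) (_ : Field F') (τ : Spec (CommRingCat.of F') ⟶ X), τ (pt F') = genericPoint X →
        ∃ s : F →+* F', τ = Spec.map (CommRingCat.ofHom s) ≫ ξ := by
  let F := X.functionField
  let ξ : Spec (CommRingCat.of F) ⟶ X := X.fromSpecStalk (genericPoint X)
  have hpt : ξ (pt F) = genericPoint X := Scheme.fromSpecStalk_closedPoint
  refine ⟨F, inferInstance, ξ, ?_, hpt, fun f => ?_, fun F' _ τ hτ => ?_⟩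
  · refine ⟨?_⟩
    rw [DenseRange, Dense]
    intro y
    have h1 : genericPoint X ⤳ y := genericPoint_specializes y
    refine closure_mono ?_ (h1.mem_closure)
    rintro _ rfl
    exact ⟨pt F, hpt⟩
  · obtain ⟨U, hU, a, rfl⟩ := X.presheaf.exists_germ_eq f
    have hU' : ξ (pt F) ∈ U := by rw [hpt]; exact hU
    have hUt := (top_le_iff ξ).mpr hU'
    have h1 : ev ξ hUt a = X.presheaf.germ U (genericPoint X) hU a :=
      congr($(appLE_fromSpecStalk X (genericPoint X) hU hUt) a)
    exact ⟨U, hU', hUt, a, h1⟩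
  · obtain ⟨s, hs⟩ := exists_of_pt_eq τ _ hτ
    exact ⟨s.hom, hs.symm⟩

end K643.Rat
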