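import Groth.Agent.Neron.K643.Ord
import Mathlib.Topology.NoetherianSpace
import Mathlib.Topology.Sober

/-!
# Generic points of the zero locus
-/

set_option autoImplicit false
set_option backward.isDefEq.respectTransparency false

universe u

open CategoryTheory CategoryTheory.Limits AlgebraicGeometry TopologicalSpace
open Groth.Agent.Fdesc.LocGen Groth.Agent.Fga.GenIso

namespace K643.Rat

section top

variable {X : Type*} [TopologicalSpace X] [QuasiSober X] [T0Space X] (S : Set X) (hS : IsClosed S)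

include hS in
theorem exists_maximal_specializes {x : X} (hx : x ∈ S) :
    ∃ η ∈ S, η ⤳ x ∧ ∀ z ∈ S, z ⤳ η → z = η := by
  have hq : QuasiSober S := hS.isClosedEmbedding_subtypeVal.quasiSober
  obtain ⟨η, hη⟩ := QuasiSober.sober (isIrreducible_irreducibleComponent (x := (⟨x, hx⟩ : S)))
    isClosed_irreducibleComponent
  have hη' : closure ({η} : Set S) = irreducibleComponent ⟨x, hx⟩ := hη
  refine ⟨η, η.2, ?_, fun z hz hzη => ?_⟩
  · have h1 : η ⤳ (⟨x, hx⟩ : S) := by
      rw [specializes_iff_mem_closure, hη']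
      exact mem_irreducibleComponent
    exact (subtype_specializes_iff _ _).mp h1
  · have h1 : (⟨z, hz⟩ : S) ⤳ η := (subtype_specializes_iff _ _).mpr hzη
    have h2 : closure ({η} : Set S) ⊆ closure ({⟨z, hz⟩} : Set S) :=
      (specializes_iff_closure_subset).mp h1
    have h3 := eq_irreducibleComponent (x := (⟨x, hx⟩ : S)) (s := closure ({⟨z, hz⟩} : Set S))
      (isIrreducible_singleton.closure).isPreirreducible (by rw [← hη']; exact h2)
    have h4 : (⟨z, hz⟩ : S) = η := by
      have h5 : IsGenericPoint (⟨z, hz⟩ : S) (irreducibleComponent ⟨x, hx⟩) := h3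
      exact h5.eq hη
    exact congrArg Subtype.val h4

include hS in
theorem finite_maximal [NoetherianSpace X] : {η : X | η ∈ S ∧ ∀ z ∈ S, z ⤳ η → z = η}.Finite := by
  have hq : QuasiSober S := hS.isClosedEmbedding_subtypeVal.quasiSober
  have hn : NoetherianSpace S := (Topology.IsInducing.subtypeVal (t := S)).noetherianSpace
  have hf : (irreducibleComponents S).Finite := NoetherianSpace.finite_irreducibleComponents
  have key : ∀ η : {η : X | η ∈ S ∧ ∀ z ∈ S, z ⤳ η → z = η},
      closure ({⟨η.1, η.2.1⟩} : Set S) ∈ irreducibleComponents S := by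
    rintro ⟨η, hη, hmax⟩
    refine ⟨(isIrreducible_singleton.closure), fun C hC hle => ?_⟩
    obtain ⟨w, hw⟩ := QuasiSober.sober hC.closure isClosed_closure
    have h1 : w ⤳ (⟨η, hη⟩ : S) := by
      rw [specializes_iff_mem_closure]
      have hw' : closure ({w} : Set S) = closure C := hw
      rw [hw']
      exact subset_closure (hle (subset_closure (Set.mem_singleton _)))
    have h2 : w = (⟨η, hη⟩ : S) :=
      Subtype.ext (hmax w.1 w.2 ((subtype_specializes_iff _ _).mp h1))
    have hw' : closure ({w} : Set S) = closure C := hw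
    rw [← h2, hw']
    exact subset_closure
  have := hf.to_subtype
  rw [← Set.finite_coe_iff]
  refine Finite.of_injective (β := irreducibleComponents S) (fun η => ⟨_, key η⟩) ?_
  intro η η' h
  have h1 : closure ({⟨η.1, η.2.1⟩} : Set S) = closure ({⟨η'.1, η'.2.1⟩} : Set S) :=
    congrArg Subtype.val h
  have h2 : (⟨η.1, η.2.1⟩ : S) = (⟨η'.1, η'.2.1⟩ : S) := by
    have h3 : IsGenericPoint (⟨η.1, η.2.1⟩ : S) (closure ({⟨η'.1, η'.2.1⟩} : Set S)) := h1
    exact h3.eq rfl
  exact Subtype.ext (congrArg (fun z : S => z.1) h2)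

end top

variable {X : Scheme.{u}} (π : Γ(X, ⊤))

theorem exists_isGenZ {x : X} (hx : x ∉ X.basicOpen π) : ∃ η : X, IsGenZ π η ∧ η ⤳ x := by
  obtain ⟨η, h1, h2, h3⟩ := exists_maximal_specializes ((X.basicOpen π : Set X)ᶜ)
    (X.basicOpen π).2.isClosed_compl hx
  exact ⟨η, ⟨h1, fun z hz hz' => h3 z hz' hz⟩, h2⟩

theorem finite_isGenZ [IsNoetherian X] : {η : X | IsGenZ π η}.Finite := by
  refine (finite_maximal ((X.basicOpen π : Set X)ᶜ) (X.basicOpen π).2.isClosed_compl).subset ?_
  rintro η ⟨h1, h2⟩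
  exact ⟨h1, fun z hz hz' => h2 z hz' hz⟩

end K643.Rat
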