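import Groth.Agent.Neron.K643.Rad
import Groth.Agent.Neron.K643.ZPts
import Groth.Agent.Neron.K643.GenPt
import Groth.Agent.Sga7.H331.Cover

/-!
# Rational functions and lifts of automorphisms
-/

set_option autoImplicit false
set_option backward.isDefEq.respectTransparency false
set_option linter.unusedSectionVars false

universe u

open CategoryTheory CategoryTheory.Limits AlgebraicGeometry TopologicalSpace
open Groth.Agent Groth.Agent.Fdesc.LocGen Groth.Agent.Fga.GenIso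
open Groth.Agent.Sga7.H331

namespace K643.Rat

theorem ev_scal {V : Type u} [CommRing V] {Y : Scheme.{u}} {F : Type u} [Field F]
    (q : Y ⟶ Spec (CommRingCat.of V)) {ξ : Spec (CommRingCat.of F) ⟶ Y} (α : V →+* F)
    (hq : ξ ≫ q = Spec.map (CommRingCat.ofHom α)) (r : V) :
    ev ξ le_top (Fga.DVRGeom.scal q r) = α r := by
  have h1 := Data.appTop_scal ξ q (𝟙 _) α (by rw [Category.id_comp]; exact hq) r
  rw [ev_apply, CovGeom.appLE_top_top, h1]
  change ((Scheme.ΓSpecIso (CommRingCat.of F)).inv ≫ (Scheme.ΓSpecIso (CommRingCat.of F)).hom) (α r) = _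
  rw [Iso.inv_hom_id]
  rfl

section

variable {R R' K K' : Type u} [CommRing R] [IsDomain R] [IsDiscreteValuationRing R]
  [CommRing R'] [IsDomain R'] [IsDiscreteValuationRing R'] [Algebra R R']
  [Field K] [Algebra R K] [IsFractionRing R K] [Field K'] [Algebra R' K'] [IsFractionRing R' K']
  [Algebra K K'] [Algebra R K'] [IsScalarTower R K K'] [IsScalarTower R R' K']
  {E : Data R' K K'} (L : ∀ σ : R' ≃ₐ[R] R', E.Lift σ)
  {F : Type u} [Field F] [Algebra K' F] [Algebra K F] [IsScalarTower K K' F]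
  {ξ : Spec (CommRingCat.of F) ⟶ E.X} {υ : Spec (CommRingCat.of F) ⟶ E.P}
  {ζ : Spec (CommRingCat.of F) ⟶ E.A} [IsDominant ξ] [IsDominant υ] [IsDominant ζ]
  (hj : υ ≫ E.j = ξ) (hp : υ ≫ E.p = ζ)
  (hb : υ ≫ E.b = Spec.map (CommRingCat.ofHom (algebraMap K' F)))
  {s : (R' ≃ₐ[R] R') → F →+* F} (hs : ∀ σ, ξ ≫ (L σ).φ = Spec.map (CommRingCat.ofHom (s σ)) ≫ ξ)

include hj hb in
theorem ξ_x : ξ ≫ E.x = Spec.map (CommRingCat.ofHom ((algebraMap K' F).comp (algebraMap R' K'))) := by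
  rw [← hj, Category.assoc, E.hX.w, reassoc_of% hb, ← Spec.map_comp]
  rfl

include hj hb in
theorem ev_scal_x (r : R') : ev ξ le_top (Fga.DVRGeom.scal E.x r) =
    algebraMap K' F (algebraMap R' K' r) :=
  ev_scal E.x _ (ξ_x hj hb) r

include hj hb in
theorem algebraMap_mem_x (r : R') (x : E.X) : algebraMap K' F (algebraMap R' K' r) ∈ Reg ξ x := by
  rw [← ev_scal_x hj hb]
  exact ev_mem (show x ∈ (⊤ : E.X.Opens) from trivial) _ _

include hj hb hs in
theorem s_algebraMap (σ : R' ≃ₐ[R] R') (r : R') : s σ (algebraMap K' F (algebraMap R' K' r)) =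
    algebraMap K' F (algebraMap R' K' (σ r)) := by
  rw [← ev_scal_x hj hb, ← ev_scal_x hj hb, ← ev_map (hs σ) (U := ⊤) (V := ⊤) le_top le_top le_top,
    CovGeom.appLE_top_top, (L σ).scal]

include hj hs in
theorem υ_ψ [IsOpenImmersion E.j] (σ : R' ≃ₐ[R] R') :
    υ ≫ (L σ).ψ = Spec.map (CommRingCat.ofHom (s σ)) ≫ υ := by
  rw [← cancel_mono E.j, Category.assoc, ← (L σ).hψ, reassoc_of% hj, Category.assoc, hj, hs]

include hj hp hs in
theorem s_eq [IsOpenImmersion E.j] (σ : R' ≃ₐ[R] R') {f : F} (hf : f ∈ Reg ζ (ζ (pt F))) : s σ f = f := by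
  obtain ⟨U, hx, hU, a, rfl⟩ := hf
  have h1 : ζ ≫ 𝟙 E.A = Spec.map (CommRingCat.ofHom (s σ)) ≫ ζ := by
    rw [Category.comp_id, ← hp, ← Category.assoc, ← υ_ψ L hj hs σ, Category.assoc, (L σ).hp]
  have h2 := ev_map h1 hU hU le_rfl a
  rw [← h2]
  congr 1
  have h3 : (𝟙 E.A : E.A ⟶ E.A).appLE U U le_rfl = 𝟙 _ :=
    (Scheme.Hom.appLE_eq_app _).trans rfl
  rw [h3]
  rfl

theorem ψ_mul (σ τ : R' ≃ₐ[R] R') : (L σ).ψ ≫ (L τ).ψ = (L (σ * τ)).ψ := by
  have := isOpenImmersion_Spec R' K'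
  apply E.hA.hom_ext
  · rw [Category.assoc, (L τ).hp, (L σ).hp, (L (σ * τ)).hp]
  · rw [← cancel_mono (Spec.map (CommRingCat.ofHom (algebraMap R' K')))]
    simp only [Category.assoc]
    rw [(L τ).ψ_b, reassoc_of% (L σ).ψ_b, ← Spec.map_comp, (L (σ * τ)).ψ_b]
    rfl

theorem isDominant_j [IsIntegral E.X] [Smooth E.x] : IsDominant E.j := by
  have hjo : IsOpenImmersion E.j :=
    MorphismProperty.of_isPullback (P := @IsOpenImmersion) E.hX.flip (isOpenImmersion_Spec R' K')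
  obtain ⟨ϖ, hϖ⟩ := IsDiscreteValuationRing.exists_irreducible R'
  have hj : E.j.opensRange = E.X.basicOpen (Fga.DVRGeom.scal E.x ϖ) :=
    Fga.DVRGeom.opensRange_eq E.x E.hX hϖ
  have hne : ((E.j.opensRange : E.X.Opens) : Set E.X).Nonempty := by
    rw [hj, Set.nonempty_iff_ne_empty]
    intro h0
    have h1 : E.X.basicOpen (Fga.DVRGeom.scal E.x ϖ) = ⊥ := by
      ext1
      exact h0
    have h2 : (0 : Γ(E.X, ⊤)) = 1 := Fga.DVRGeom.ores_tr_injective E.x hϖ.ne_zero ⊤ 0 1 (by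
      have h3 : Fga.GenIso.tr (Fga.DVRGeom.scal E.x ϖ) ⊤ = ⊥ := by
        rw [Fga.GenIso.tr_eq, h1, bot_inf_eq]
      have h4 : Subsingleton Γ(E.X, Fga.GenIso.tr (Fga.DVRGeom.scal E.x ϖ) ⊤) := by
        rw [h3]
        exact CommRingCat.subsingleton_of_isTerminal E.X.sheaf.isTerminalOfEmpty
      exact Subsingleton.elim _ _)
    have h5 : Nontrivial Γ(E.X, ⊤) := inferInstance
    exact zero_ne_one h2
  refine ⟨?_⟩
  rw [DenseRange, Dense]
  intro y
  exact (IsOpen.dense E.j.opensRange.2 hne) y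

theorem φ_mul [IsIntegral E.X] [Smooth E.x] [IsSeparated E.x] (σ τ : R' ≃ₐ[R] R') :
    (L σ).φ ≫ (L τ).φ = (L (σ * τ)).φ := by
  have hdom := isDominant_j (E := E)
  refine ext_of_isDominant_of_isSeparated E.x ?_ E.j ?_
  · rw [Category.assoc, (L τ).hφ, reassoc_of% (L σ).hφ, ← Spec.map_comp, (L (σ * τ)).hφ]
    rfl
  · rw [reassoc_of% (L σ).hψ, (L τ).hψ, ← Category.assoc, ψ_mul, (L (σ * τ)).hψ]

end

/-- A finite set of representatives for the image of an action on a finite set. -/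
theorem exists_reps {Γ : Type*} [Group Γ] {X : Type*} (φ : Γ → X → X)
    (hφ : ∀ σ τ x, φ τ (φ σ x) = φ (σ * τ) x) (hφ1 : ∀ x, φ 1 x = x) (Z : Set X) (hZ : Z.Finite)
    (hφZ : ∀ σ, ∀ x ∈ Z, φ σ x ∈ Z) :
    ∃ T : Finset Γ, T.Nonempty ∧ ∀ (ν : X → ℤ) (σ : Γ), ∀ x ∈ Z,
      ∑ τ ∈ T, ν (φ τ (φ σ x)) = ∑ τ ∈ T, ν (φ τ x) := by
  classical
  have _ := hZ.to_subtype
  have _ := Fintype.ofFinite Z
  let Φ : Γ → (Z → Z) := fun σ z => ⟨φ σ z, hφZ σ z z.2⟩
  have hfin : (Set.range Φ).Finite := Set.toFinite _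
  let S : Finset (Z → Z) := hfin.toFinset
  have hS : ∀ h, h ∈ S ↔ ∃ σ, Φ σ = h := fun h => by
    rw [Set.Finite.mem_toFinset]
    rfl
  have hex : ∀ h : Z → Z, ∃ σ, h ∈ S → Φ σ = h := by
    intro h
    by_cases hh : h ∈ S
    · obtain ⟨σ, hσ⟩ := (hS h).mp hh
      exact ⟨σ, fun _ => hσ⟩
    · exact ⟨1, fun h' => absurd h' hh⟩
  choose g hg using hex
  have hinj : ∀ h ∈ S, ∀ h' ∈ S, g h = g h' → h = h' := fun h hh h' hh' e => by
    rw [← hg h hh, ← hg h' hh', e]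
  refine ⟨S.image g, ?_, ?_⟩
  · exact ⟨g (Φ 1), Finset.mem_image_of_mem _ ((hS _).mpr ⟨1, rfl⟩)⟩
  · intro ν σ x hx
    have key : ∀ z : Z, ∑ τ ∈ S.image g, ν (φ τ z) = ∑ h ∈ S, ν (h z) := by
      intro z
      rw [Finset.sum_image hinj]
      refine Finset.sum_congr rfl fun h hh => ?_
      have h1 : φ (g h) z = h z := congrArg (fun k => ((k z : Z) : X)) (hg h hh)
      rw [h1]
    rw [key ⟨x, hx⟩]
    have h1 := key (Φ σ ⟨x, hx⟩)
    change ∑ τ ∈ S.image g, ν (φ τ (φ σ x)) = _ at h1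
    rw [h1]
    -- the right translation
    have hmaps : ∀ h ∈ S, (h ∘ Φ σ) ∈ S := by
      intro h hh
      obtain ⟨τ, rfl⟩ := (hS h).mp hh
      exact (hS _).mpr ⟨σ * τ, by
        funext z
        exact Subtype.ext (hφ σ τ z).symm⟩
    have hsurj : Function.Surjective (Φ σ) := by
      intro z
      refine ⟨Φ σ⁻¹ z, Subtype.ext ?_⟩
      change φ σ (φ σ⁻¹ z) = z
      rw [hφ, inv_mul_cancel, hφ1]
    have hinj2 : ∀ h ∈ S, ∀ h' ∈ S, h ∘ Φ σ = h' ∘ Φ σ → h = h' := fun h _ h' _ e =>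
      hsurj.injective_comp_right e
    have himage : S.image (fun h => h ∘ Φ σ) = S := by
      apply Finset.eq_of_subset_of_card_le
      · intro h hh
        obtain ⟨h', hh', rfl⟩ := Finset.mem_image.mp hh
        exact hmaps h' hh'
      · rw [Finset.card_image_of_injOn hinj2]
    conv_rhs => rw [← himage]
    rw [Finset.sum_image hinj2]
    rfl

end K643.Rat
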