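import Groth.Agent.Neron.K643.Dv

/-!
# Functoriality of rational functions and divisors
-/

set_option autoImplicit false
set_option backward.isDefEq.respectTransparency false

universe u

open CategoryTheory CategoryTheory.Limits AlgebraicGeometry TopologicalSpace
open Groth.Agent.Fdesc.LocGen

namespace K643.Rat

variable {X Y : Scheme.{u}} {F F' : Type u} [Field F] [Field F'] {ξ : Spec (CommRingCat.of F) ⟶ X}
  {υ : Spec (CommRingCat.of F') ⟶ Y} {h : Y ⟶ X} {σ : F →+* F'}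

theorem ev_map (e : υ ≫ h = Spec.map (CommRingCat.ofHom σ) ≫ ξ) {U : X.Opens} {V : Y.Opens}
    (hU : (⊤ : (Spec (CommRingCat.of F)).Opens) ≤ ξ ⁻¹ᵁ U)
    (hV : (⊤ : (Spec (CommRingCat.of F')).Opens) ≤ υ ⁻¹ᵁ V) (hVU : V ≤ h ⁻¹ᵁ U) (a : Γ(X, U)) :
    ev υ hV (h.appLE U V hVU a) = σ (ev ξ hU a) := by
  rw [ev_apply, ev_apply, ← CommRingCat.comp_apply (h.appLE U V hVU), Scheme.Hom.appLE_comp_appLE]
  have h1 : (υ ≫ h).appLE U ⊤ (hV.trans (υ.preimage_mono hVU)) =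
      (Spec.map (CommRingCat.ofHom σ) ≫ ξ).appLE U ⊤ (le_top.trans ((Spec.map
        (CommRingCat.ofHom σ)).preimage_mono hU)) := by
    simp only [e]
  rw [h1, ← Scheme.Hom.appLE_comp_appLE (Spec.map (CommRingCat.ofHom σ)) ξ U ⊤ ⊤ hU le_top]
  have h2 : (Spec.map (CommRingCat.ofHom σ)).appLE ⊤ ⊤ le_top = (Spec.map (CommRingCat.ofHom σ)).appTop :=
    Scheme.Hom.appLE_eq_app _
  rw [h2, ← CommRingCat.comp_apply, Category.assoc, Scheme.ΓSpecIso_naturality]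
  rfl

theorem e_id {υ : Spec (CommRingCat.of F) ⟶ Y} (e : υ ≫ h = ξ) :
    υ ≫ h = Spec.map (CommRingCat.ofHom (RingHom.id F)) ≫ ξ := by
  rw [show CommRingCat.ofHom (RingHom.id F) = 𝟙 (CommRingCat.of F) from rfl, Spec.map_id,
    Category.id_comp, e]

theorem reg_map [IsDominant υ] (e : υ ≫ h = Spec.map (CommRingCat.ofHom σ) ≫ ξ) {y : Y} {f : F}
    (hf : f ∈ Reg ξ (h y)) : σ f ∈ Reg υ y := by
  obtain ⟨U, hx, hU, a, rfl⟩ := hf
  have hy : y ∈ h ⁻¹ᵁ U := hx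
  rw [← ev_map e hU (top_le υ hy) le_rfl]
  exact ev_mem hy _ _

theorem UnitAt.map [IsDominant υ] (e : υ ≫ h = Spec.map (CommRingCat.ofHom σ) ≫ ξ) {y : Y} {f : F}
    (hf : UnitAt ξ (h y) f) : UnitAt υ y (σ f) :=
  ⟨(map_ne_zero σ).mpr hf.1, reg_map e hf.2.1, by rw [← map_inv₀]; exact reg_map e hf.2.2⟩

theorem unitAt_map_iff [IsIntegral X] [IsIntegral Y] [IsDominant ξ] [IsDominant υ]
    (e : υ ≫ h = Spec.map (CommRingCat.ofHom σ) ≫ ξ) {y : Y} {f : F}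
    (hf : f ∈ Reg ξ (h y)) : UnitAt υ y (σ f) ↔ UnitAt ξ (h y) f := by
  obtain ⟨U, hx, hU, a, rfl⟩ := hf
  have hy : y ∈ h ⁻¹ᵁ U := hx
  rw [← ev_map e hU (top_le υ hy) le_rfl, unitAt_ev_iff υ _ _ hy, unitAt_ev_iff ξ _ _ hx,
    Scheme.basicOpen_appLE]
  exact ⟨fun h => h.2, fun h => ⟨hy, h⟩⟩

/-- Open immersions do not change the local rings. -/
theorem reg_of_isOpenImmersion {υ : Spec (CommRingCat.of F) ⟶ Y} (e : υ ≫ h = ξ) [IsOpenImmersion h]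
    {y : Y} {f : F} (hf : f ∈ Reg υ y) : f ∈ Reg ξ (h y) := by
  obtain ⟨V, hy, hV, b, rfl⟩ := hf
  have h0 : V ≤ h ⁻¹ᵁ (h ''ᵁ V) := (h.preimage_image_eq V).ge
  have hV' : (⊤ : (Spec (CommRingCat.of F)).Opens) ≤ ξ ⁻¹ᵁ (h ''ᵁ V) := by
    rw [← e]
    exact hV.trans (υ.preimage_mono h0)
  obtain ⟨a, ha⟩ : ∃ a : Γ(X, h ''ᵁ V), h.appLE (h ''ᵁ V) V h0 a = b := by
    refine ⟨(h.appIso V).inv b, ?_⟩
    rw [← CommRingCat.comp_apply, Scheme.Hom.appIso_inv_appLE]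
    simp
  have h1 := ev_map (e_id e) hV' hV h0 a
  rw [ha] at h1
  rw [h1]
  exact ev_mem (show h y ∈ h ''ᵁ V from ⟨y, hy, rfl⟩) hV' a

theorem reg_iff_of_isOpenImmersion {υ : Spec (CommRingCat.of F) ⟶ Y} [IsDominant υ] (e : υ ≫ h = ξ)
    [IsOpenImmersion h] {y : Y} {f : F} : f ∈ Reg υ y ↔ f ∈ Reg ξ (h y) :=
  ⟨reg_of_isOpenImmersion e, fun hf => reg_map (σ := RingHom.id F) (e_id e) hf⟩

theorem unitAt_iff_of_isOpenImmersion {υ : Spec (CommRingCat.of F) ⟶ Y} [IsDominant υ] (e : υ ≫ h = ξ)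
    [IsOpenImmersion h] {y : Y} {f : F} : UnitAt υ y f ↔ UnitAt ξ (h y) f := by
  rw [UnitAt, UnitAt, reg_iff_of_isOpenImmersion e, reg_iff_of_isOpenImmersion e]

namespace Dv

/-- Pull back of a divisor. -/
def pull [IsDominant υ] (e : υ ≫ h = Spec.map (CommRingCat.ofHom σ) ≫ ξ) (D : Dv ξ) : Dv υ where
  g y := σ (D.g (h y))
  ne y := (map_ne_zero σ).mpr (D.ne _)
  loc y := by
    obtain ⟨W, hW, hW'⟩ := D.loc (h y)
    refine ⟨h ⁻¹ᵁ W, hW, fun w hw => ?_⟩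
    rw [← map_div₀]
    exact UnitAt.map e (hW' _ hw)

theorem IsSec.pull [IsDominant υ] (e : υ ≫ h = Spec.map (CommRingCat.ofHom σ) ≫ ξ) {D : Dv ξ} {f : F}
    (hf : D.IsSec f) : (D.pull e).IsSec (σ f) := by
  intro y
  change σ f / σ _ ∈ _
  rw [← map_div₀]
  exact reg_map e (hf _)

theorem nv_pull [IsIntegral X] [IsIntegral Y] [IsDominant ξ] [IsDominant υ]
    (e : υ ≫ h = Spec.map (CommRingCat.ofHom σ) ≫ ξ) {D : Dv ξ} {f : F} (hf : D.IsSec f) :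
    (D.pull e).nv (σ f) = h ⁻¹ᵁ (D.nv f) := by
  ext y
  change UnitAt υ y (σ f / σ _) ↔ UnitAt ξ (h y) _
  rw [← map_div₀]
  exact unitAt_map_iff e (hf _)

end Dv

end K643.Rat
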