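import Groth.Agent.Neron.K643.Fun
import Groth.Agent.Fga.GenIso
import Mathlib.RingTheory.UniqueFactorizationDomain.Multiplicity
import Mathlib.AlgebraicGeometry.Noetherian

/-!
# Orders along a prime function
-/

set_option autoImplicit false
set_option backward.isDefEq.respectTransparency false

universe u

open CategoryTheory CategoryTheory.Limits AlgebraicGeometry TopologicalSpace
open Groth.Agent.Fdesc.LocGen Groth.Agent.Fga.GenIso

namespace K643.Rat

variable {X : Scheme.{u}} {F : Type u} [Field F] (ξ : Spec (CommRingCat.of F) ⟶ X) (π : Γ(X, ⊤))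

/-- The rational function given by a global function. -/
noncomputable def vl : F := ev ξ le_top π

theorem mem_basicOpen_iff [IsIntegral X] [IsDominant ξ] {x : X} :
    x ∈ X.basicOpen π ↔ UnitAt ξ x (vl ξ π) :=
  (unitAt_ev_iff ξ le_top π (show x ∈ (⊤ : X.Opens) from trivial)).symm

theorem vl_mem (x : X) : vl ξ π ∈ Reg ξ x := ev_mem (show x ∈ (⊤ : X.Opens) from trivial) _ _

/-- `f` is the `m`-th power of `π` at `x`, up to units. -/
def Ord (x : X) (f : F) (m : ℤ) : Prop := UnitAt ξ x (f / vl ξ π ^ m)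

variable {ξ π}

theorem Ord.mul {x : X} {f f' : F} {m m' : ℤ} (hπ : vl ξ π ≠ 0) (h : Ord ξ π x f m)
    (h' : Ord ξ π x f' m') : Ord ξ π x (f * f') (m + m') := by
  rw [Ord, zpow_add₀ hπ, ← div_mul_div_comm]
  exact UnitAt.mul h h'

theorem Ord.inv {x : X} {f : F} {m : ℤ} (h : Ord ξ π x f m) : Ord ξ π x f⁻¹ (-m) := by
  rw [Ord, zpow_neg, div_inv_eq_mul]
  have h1 := UnitAt.inv h
  rwa [inv_div, div_eq_mul_inv, mul_comm] at h1

theorem Ord.div {x : X} {f f' : F} {m m' : ℤ} (hπ : vl ξ π ≠ 0) (h : Ord ξ π x f m)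
    (h' : Ord ξ π x f' m') : Ord ξ π x (f / f') (m - m') := by
  rw [div_eq_mul_inv, sub_eq_add_neg]
  exact h.mul hπ h'.inv

theorem Ord.prod {x : X} {ι : Type*} (s : Finset ι) {f : ι → F} {m : ι → ℤ} (hπ : vl ξ π ≠ 0)
    (h : ∀ i ∈ s, Ord ξ π x (f i) (m i)) : Ord ξ π x (∏ i ∈ s, f i) (∑ i ∈ s, m i) := by
  classical
  induction s using Finset.induction_on with
  | empty =>
    rw [Finset.prod_empty, Finset.sum_empty, Ord, zpow_zero, div_one]
    exact UnitAt.one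
  | insert a s ha ih =>
    rw [Finset.prod_insert ha, Finset.sum_insert ha]
    exact (h a (Finset.mem_insert_self _ _)).mul hπ (ih fun i hi => h i (Finset.mem_insert_of_mem hi))

theorem Ord.of_unitAt_div {x : X} {f f' : F} {m : ℤ} (hf : f' ≠ 0) (h : UnitAt ξ x (f / f'))
    (h' : Ord ξ π x f' m) : Ord ξ π x f m := by
  have h1 := UnitAt.mul h h'
  have h2 : f / f' * (f' / vl ξ π ^ m) = f / vl ξ π ^ m := by
    rw [div_mul_div_cancel₀ hf]
  rwa [h2] at h1

theorem isOpen_ord (f : F) (m : ℤ) : IsOpen {x : X | Ord ξ π x f m} := isOpen_unitAt ξ _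

theorem Ord.eq_zero [IsIntegral X] [IsDominant ξ] {x : X} (hx : x ∉ X.basicOpen π) {m : ℤ}
    (h : Ord ξ π x 1 m) : m = 0 := by
  have key : ∀ n : ℕ, UnitAt ξ x (vl ξ π ^ n) → n = 0 := by
    intro n hn
    by_contra h0
    exact hx ((mem_basicOpen_iff ξ π).mpr (hn.of_pow (vl_mem ξ π x) (Nat.pos_of_ne_zero h0)))
  have h1 : UnitAt ξ x ((vl ξ π ^ m)⁻¹) := by
    have h2 : UnitAt ξ x (1 / vl ξ π ^ m) := h
    rwa [one_div] at h2
  rcases m with n | n
  · have h2 := h1.inv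
    rw [inv_inv, Int.ofNat_eq_natCast, zpow_natCast] at h2
    rw [key n h2]
    rfl
  · rw [zpow_negSucc, inv_inv] at h1
    exact absurd (key _ h1) (Nat.succ_ne_zero n)

theorem Ord.unique [IsIntegral X] [IsDominant ξ] {x : X} (hx : x ∉ X.basicOpen π) {f : F} (hf : f ≠ 0)
    (hπ : vl ξ π ≠ 0) {m m' : ℤ} (h : Ord ξ π x f m) (h' : Ord ξ π x f m') : m = m' := by
  have h1 := h.div hπ h'
  rw [div_self hf] at h1
  exact sub_eq_zero.mp (h1.eq_zero hx)

/-- Divisibility by a prime function. -/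
theorem reg_or_reg [IsIntegral X] [IsDominant ξ] {x : X} (hπ : vl ξ π ≠ 0)
    (hp : (Ideal.span {ge (show x ∈ (⊤ : X.Opens) from trivial) π}).IsPrime) {a b : F}
    (ha : a ∈ Reg ξ x) (hb : b ∈ Reg ξ x) (hab : a * b / vl ξ π ∈ Reg ξ x) :
    a / vl ξ π ∈ Reg ξ x ∨ b / vl ξ π ∈ Reg ξ x := by
  obtain ⟨U, hxU, hU, a, rfl⟩ := ha
  obtain ⟨V, hxV, hV, b, rfl⟩ := hb
  obtain ⟨W, hxW, hW, c, hc⟩ := hab
  have hT := top_le_inf ξ (top_le_inf ξ hU hV) hW
  have h1 : ores (inf_le_left.trans inf_le_left : U ⊓ V ⊓ W ≤ U) a *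
      ores (inf_le_left.trans inf_le_right : U ⊓ V ⊓ W ≤ V) b =
      ores (le_top : U ⊓ V ⊓ W ≤ ⊤) π * ores (inf_le_right : U ⊓ V ⊓ W ≤ W) c := by
    apply ev_injective ξ hT
    rw [map_mul, map_mul, ev_ores, ev_ores, ev_ores, ev_ores, hc]
    change _ = vl ξ π * _
    field_simp
  have hxT : x ∈ U ⊓ V ⊓ W := ⟨⟨hxU, hxV⟩, hxW⟩
  have h2 := congr(ge hxT $h1)
  rw [map_mul, map_mul, ge_ores, ge_ores, ge_ores, ge_ores] at h2
  have h3 : ge hxU a * ge hxV b ∈ Ideal.span {ge (show x ∈ (⊤ : X.Opens) from trivial) π} := by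
    rw [h2]
    exact Ideal.mul_mem_right _ _ (Ideal.mem_span_singleton_self _)
  have key : ∀ (U : X.Opens) (hxU : x ∈ U) (hU : (⊤ : (Spec (CommRingCat.of F)).Opens) ≤ ξ ⁻¹ᵁ U)
      (a : Γ(X, U)), ge hxU a ∈ Ideal.span {ge (show x ∈ (⊤ : X.Opens) from trivial) π} →
      ev ξ hU a / vl ξ π ∈ Reg ξ x := by
    intro U hxU hU a h
    obtain ⟨d, hd⟩ := Ideal.mem_span_singleton.mp h
    obtain ⟨T, hxT, d', rfl⟩ := X.presheaf.exists_germ_eq d
    have h4 : ge hxU a = ge hxT (ores (le_top : T ≤ ⊤) π * d') := by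
      rw [hd, map_mul, ge_ores]
    obtain ⟨W', h5, h6, hxW', h7⟩ := exists_ores_eq_of_ge_eq hxU hxT _ _ h4
    have h8 := congr(ev ξ (top_le ξ hxW') $h7)
    rw [ev_ores, ev_ores, map_mul, ev_ores] at h8
    have h9 : ev ξ hU a = vl ξ π * ev ξ (top_le ξ hxT) d' := h8
    rw [h9, mul_div_cancel_left₀ _ hπ]
    exact ev_mem hxT _ _
  rcases hp.mem_or_mem h3 with h | h
  · exact Or.inl (key U hxU hU a h)
  · exact Or.inr (key V hxV hV b h)

theorem exists_ord_of_mul [IsIntegral X] [IsDominant ξ] {x : X} (hπ : vl ξ π ≠ 0)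
    (hp : (Ideal.span {ge (show x ∈ (⊤ : X.Opens) from trivial) π}).IsPrime) (n : ℕ) : ∀ {a b : F},
    a ∈ Reg ξ x → b ∈ Reg ξ x → a * b = vl ξ π ^ n → ∃ m : ℤ, Ord ξ π x a m := by
  induction n with
  | zero =>
    intro a b ha hb hab
    refine ⟨0, ?_⟩
    rw [Ord, zpow_zero, div_one]
    rw [pow_zero] at hab
    refine ⟨left_ne_zero_of_mul_eq_one hab, ha, ?_⟩
    rw [inv_eq_of_mul_eq_one_right hab]
    exact hb
  | succ n ih =>
    intro a b ha hb hab
    have h1 : a * b / vl ξ π ∈ Reg ξ x := by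
      rw [hab, pow_succ, mul_div_cancel_right₀ _ hπ]
      exact pow_mem (vl_mem ξ π x) n
    rcases reg_or_reg hπ hp ha hb h1 with h | h
    · obtain ⟨m, hm⟩ := ih h hb (by rw [div_mul_eq_mul_div, hab, pow_succ, mul_div_cancel_right₀ _ hπ])
      refine ⟨m + 1, ?_⟩
      rw [Ord, zpow_add₀ hπ, zpow_one, mul_comm, ← div_div]
      exact hm
    · exact ih ha h (by rw [← mul_div_assoc, hab, pow_succ, mul_div_cancel_right₀ _ hπ])

/-- A rational function which is a unit at the points of `D(π)` near `x` is a power of `π` near `x`. -/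
theorem exists_ord [IsIntegral X] [IsDominant ξ] {x : X} (hπ : vl ξ π ≠ 0)
    (hp : (Ideal.span {ge (show x ∈ (⊤ : X.Opens) from trivial) π}).IsPrime) {f : F} {W : X.Opens}
    (hx : x ∈ W) (hf : ∀ w ∈ W, w ∈ X.basicOpen π → UnitAt ξ w f) : ∃ m : ℤ, Ord ξ π x f m := by
  obtain ⟨V, hV, hxV, hVW⟩ := exists_isAffineOpen_mem_and_subset hx
  have hVt := top_le ξ hxV
  have hne : ((X.basicOpen π : X.Opens) : Set X).Nonempty := by
    rw [Set.nonempty_iff_ne_empty]
    intro h0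
    apply hπ
    have h1 : π = 0 := by
      rw [← basicOpen_eq_bot_iff]
      ext1
      exact h0
    rw [vl, h1, map_zero]
  have hpt : ξ (pt F) ∈ X.basicOpen (ores (le_top : V ≤ ⊤) π) := by
    obtain ⟨z, hz⟩ := hne
    rw [basicOpen_ores]
    exact ⟨pt_mem ξ hz, pt_mem ξ hxV⟩
  have hDt := (top_le_iff ξ).mpr hpt
  have key : ∀ g : F, (∀ w ∈ X.basicOpen (ores (le_top : V ≤ ⊤) π), g ∈ Reg ξ w) →
      ∃ n : ℕ, vl ξ π ^ n * g ∈ Reg ξ x := by
    intro g hg
    obtain ⟨b, hb⟩ := exists_section ξ hDt g hg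
    obtain ⟨n, y, hy⟩ := exists_eq_pow_mul_of_isAffineOpen X V hV (ores (le_top : V ≤ ⊤) π) b
    have hy' : ores (X.basicOpen_le _) y =
      ores (X.basicOpen_le _) (ores (le_top : V ≤ ⊤) π) ^ n * b := hy
    have h3 := congr(ev ξ hDt $hy')
    rw [map_mul, map_pow, ev_ores, ev_ores, ev_ores, hb] at h3
    refine ⟨n, ?_⟩
    have h4 : vl ξ π ^ n * g = ev ξ hVt y := h3.symm
    rw [h4]
    exact ev_mem hxV _ _
  have hf' : ∀ w ∈ X.basicOpen (ores (le_top : V ≤ ⊤) π), UnitAt ξ w f := by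
    intro w hw
    rw [basicOpen_ores] at hw
    exact hf w (hVW hw.2) hw.1
  obtain ⟨n, hn⟩ := key f fun w hw => (hf' w hw).2.1
  obtain ⟨n', hn'⟩ := key f⁻¹ fun w hw => (hf' w hw).2.2
  have hf0 : f ≠ 0 := (hf' _ hpt).1
  obtain ⟨m, hm⟩ := exists_ord_of_mul hπ hp (n + n') hn hn' (by
    rw [pow_add]
    field_simp)
  refine ⟨m - n, ?_⟩
  rw [Ord, zpow_sub₀ hπ, zpow_natCast]
  have h5 : f / (vl ξ π ^ m / vl ξ π ^ n) = vl ξ π ^ n * f / vl ξ π ^ m := by
    field_simp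
  rw [h5]
  exact hm

variable (π) in
/-- `x` is a generic point of the zero locus of `π`. -/
def IsGenZ (x : X) : Prop := x ∉ X.basicOpen π ∧ ∀ z : X, z ⤳ x → z ∉ X.basicOpen π → z = x

/-- At the generic points of the zero locus every rational function is a power of `π`. -/
theorem exists_ord_gen [IsIntegral X] [IsLocallyNoetherian X] [IsDominant ξ]
    (hF : ∀ f : F, f ∈ Reg ξ (ξ (pt F))) {x : X} (hx : IsGenZ π x) (hπ : vl ξ π ≠ 0)
    (hp : (Ideal.span {ge (show x ∈ (⊤ : X.Opens) from trivial) π}).IsPrime) {f : F} (hf : f ≠ 0) :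
    ∃ m : ℤ, Ord ξ π x f m := by
  -- the maximal ideal is generated by `π`
  have hmax : IsLocalRing.maximalIdeal (X.presheaf.stalk x) =
      Ideal.span {ge (show x ∈ (⊤ : X.Opens) from trivial) π} := by
    let P : PrimeSpectrum (X.presheaf.stalk x) :=
      ⟨Ideal.span {ge (show x ∈ (⊤ : X.Opens) from trivial) π}, hp⟩
    have h1 : X.fromSpecStalk x P ⤳ x := by
      have : X.fromSpecStalk x P ∈ Set.range (X.fromSpecStalk x) := ⟨P, rfl⟩
      rw [Scheme.range_fromSpecStalk] at this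
      exact this
    have h2 : X.fromSpecStalk x P ∉ X.basicOpen π := by
      intro h
      have h3 : P ∈ (X.fromSpecStalk x) ⁻¹ᵁ (X.basicOpen π) := h
      rw [Scheme.preimage_basicOpen_top, Scheme.fromSpecStalk_appTop] at h3
      have h4 : P ∈ (Spec (X.presheaf.stalk x)).basicOpen
          ((Scheme.ΓSpecIso (X.presheaf.stalk x)).inv (ge (show x ∈ (⊤ : X.Opens) from trivial) π)) := h3
      have h5 := basicOpen_eq_of_affine (R := X.presheaf.stalk x)
        (ge (show x ∈ (⊤ : X.Opens) from trivial) π)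
      rw [h5] at h4
      exact h4 (Ideal.mem_span_singleton_self _)
    have h3 := hx.2 _ h1 h2
    have h4 : P = IsLocalRing.closedPoint (X.presheaf.stalk x) := by
      apply (X.fromSpecStalk x).isEmbedding.injective
      rw [h3]
      exact (Scheme.fromSpecStalk_closedPoint).symm
    exact (congrArg PrimeSpectrum.asIdeal h4).symm
  have key : ∀ a : F, a ≠ 0 → a ∈ Reg ξ x → ∃ m : ℤ, Ord ξ π x a m := by
    intro a ha0 ha
    obtain ⟨U, hxU, hU, a, rfl⟩ := ha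
    have hga : ge hxU a ≠ 0 := by
      intro h
      obtain ⟨W, h1, h2, hxW, h3⟩ := exists_ores_eq_of_ge_eq hxU hxU a 0 (by rw [h, map_zero])
      have h4 := congr(ev ξ (top_le ξ hxW) $h3)
      rw [ev_ores, ev_ores, map_zero] at h4
      exact ha0 h4
    have hnu : ¬ IsUnit (ge (show x ∈ (⊤ : X.Opens) from trivial) π) := by
      intro h
      exact hx.1 ((Scheme.mem_basicOpen _ _ _ _).mpr h)
    obtain ⟨c, hc, hc'⟩ := (FiniteMultiplicity.of_not_isUnit hnu hga).exists_eq_pow_mul_and_not_dvd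
    have hcu : IsUnit c := by
      by_contra hcon
      have h1 : c ∈ IsLocalRing.maximalIdeal (X.presheaf.stalk x) := hcon
      rw [hmax, Ideal.mem_span_singleton] at h1
      exact hc' h1
    obtain ⟨W, hxW, v, hv, rfl⟩ := exists_unit_of_ge_unit c hcu
    set k := multiplicity (ge (show x ∈ (⊤ : X.Opens) from trivial) π) (ge hxU a)
    have h4 : ge hxU a = ge hxW (ores (le_top : W ≤ ⊤) π ^ k * v) := by
      rw [hc, map_mul, map_pow, ge_ores]
    obtain ⟨W', h5, h6, hxW', h7⟩ := exists_ores_eq_of_ge_eq hxU hxW _ _ h4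
    have h8 := congr(ev ξ (top_le ξ hxW') $h7)
    rw [ev_ores, ev_ores, map_mul, map_pow, ev_ores] at h8
    have h9 : ev ξ hU a = vl ξ π ^ k * ev ξ (top_le ξ hxW) v := h8
    refine ⟨k, ?_⟩
    rw [Ord, h9, zpow_natCast, mul_div_cancel_left₀ _ (pow_ne_zero k hπ), unitAt_ev_iff ξ _ v hxW]
    exact (Scheme.mem_basicOpen _ _ _ hxW).mpr hcu
  -- every rational function is a quotient
  obtain ⟨U, hU1, hU2, c, hc⟩ := hF f
  obtain ⟨V, hV, hxV, -⟩ := exists_isAffineOpen_mem_and_subset (U := (⊤ : X.Opens)) (x := x) trivial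
  have hVt := top_le ξ hxV
  obtain ⟨b, hb, hb'⟩ := hV.exists_basicOpen_le (V := U) ⟨ξ (pt F), hU1⟩ (pt_mem ξ hxV)
  have hb't : (⊤ : (Spec (CommRingCat.of F)).Opens) ≤ ξ ⁻¹ᵁ (X.basicOpen b) := (top_le_iff ξ).mpr hb'
  obtain ⟨n, y, hy⟩ := exists_eq_pow_mul_of_isAffineOpen X V hV b (ores hb c)
  have hy' : ores (X.basicOpen_le _) y = ores (X.basicOpen_le _) b ^ n * ores hb c := hy
  have h3 := congr(ev ξ hb't $hy')
  rw [map_mul, map_pow, ev_ores, ev_ores, ev_ores, hc] at h3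
  have hb0 : ev ξ hVt b ≠ 0 := ((unitAt_ev_iff ξ hVt b (x := ξ (pt F)) (pt_mem ξ hxV)).mpr hb').1
  obtain ⟨m, hm⟩ := key (ev ξ hVt b ^ n) (pow_ne_zero n hb0) (pow_mem (ev_mem hxV _ _) n)
  obtain ⟨m', hm'⟩ := key (ev ξ hVt y) (by
    rw [h3]
    exact mul_ne_zero (pow_ne_zero n hb0) hf) (ev_mem hxV _ _)
  refine ⟨m' - m, ?_⟩
  have h4 := hm'.div hπ hm
  rwa [h3, mul_div_cancel_left₀ _ (pow_ne_zero n hb0)] at h4

end K643.Rat
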