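import Groth.Agent.Neron.K643.BC

/-!
# Sections with affine nonvanishing locus
-/

set_option autoImplicit false
set_option backward.isDefEq.respectTransparency false

universe u

open CategoryTheory CategoryTheory.Limits AlgebraicGeometry TopologicalSpace TensorProduct
open Groth.Agent.Fdesc.LocGen Groth.Agent.Sga7.H331

namespace K643.Rat

section

variable {A : Scheme.{u}} {F : Type u} [Field F] {ξ : Spec (CommRingCat.of F) ⟶ A}

/-- Ampleness of a divisor. -/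
def Dv.Amp (D : Dv ξ) : Prop := ∀ x : A, ∃ (n : ℕ) (f : F), (D.pow (n + 1)).IsSec f ∧
  x ∈ (D.pow (n + 1)).nv f ∧ IsAffineOpen ((D.pow (n + 1)).nv f)

theorem exists_common {D : Dv ξ} {ι : Type*} (s : Finset ι) (n : ι → ℕ) (f : ι → F)
    (h : ∀ i ∈ s, (D.pow (n i + 1)).IsSec (f i)) :
    ∃ N : ℕ, 0 < N ∧ ∃ f' : ι → F, ∀ i ∈ s, (D.pow N).IsSec (f' i) ∧
      (D.pow N).nv (f' i) = (D.pow (n i + 1)).nv (f i) := by
  classical
  refine ⟨∏ i ∈ s, (n i + 1), Finset.prod_pos fun i _ => Nat.succ_pos _,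
    fun i => f i ^ ((∏ i ∈ s, (n i + 1)) / (n i + 1)), fun i hi => ?_⟩
  obtain ⟨k, hk⟩ := Finset.dvd_prod_of_mem (fun i => n i + 1) hi
  have hpos : 0 < ∏ i ∈ s, (n i + 1) := Finset.prod_pos fun i _ => Nat.succ_pos _
  have hk0 : 0 < k := by
    rcases Nat.eq_zero_or_pos k with h | h
    · rw [h, mul_zero] at hk
      omega
    · exact h
  have hdiv : (n i + 1) * k / (n i + 1) = k := Nat.mul_div_cancel_left _ (Nat.succ_pos _)
  simp only
  rw [hk, hdiv, Dv.nv_pow_pow (h i hi) hk0]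
  exact ⟨(h i hi).pow_pow k, rfl⟩

/-- A finite cover by nonvanishing loci of sections of the same degree. -/
theorem Dv.Amp.exists_cover [CompactSpace A] {D : Dv ξ} (hD : D.Amp) :
    ∃ (ι : Type u) (_ : Finite ι) (m : ℕ) (d : ι → F), 0 < m ∧ (∀ i, (D.pow m).IsSec (d i)) ∧
      (∀ i, IsAffineOpen ((D.pow m).nv (d i))) ∧ ∀ x : A, ∃ i, x ∈ (D.pow m).nv (d i) := by
  choose n f h1 h2 h3 using hD
  obtain ⟨s, hs⟩ := (isCompact_univ : IsCompact (Set.univ : Set A)).elim_finite_subcover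
    (fun x => (((D.pow (n x + 1)).nv (f x) : A.Opens) : Set A)) (fun x => ((D.pow (n x + 1)).nv (f x)).2)
    (fun x _ => Set.mem_iUnion.mpr ⟨x, h2 x⟩)
  obtain ⟨N, hN, f', hf'⟩ := exists_common s n f (fun x _ => h1 x)
  refine ⟨s, inferInstance, N, fun x => f' x, hN, fun x => (hf' x x.2).1, fun x => ?_, fun x => ?_⟩
  · rw [(hf' x x.2).2]
    exact h3 x
  · obtain ⟨y, hy, hxy⟩ := Set.mem_iUnion₂.mp (hs (Set.mem_univ x))
    refine ⟨⟨y, hy⟩, ?_⟩
    rw [(hf' y hy).2]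
    exact hxy

theorem Dv.IsSec.mem_generic {D : Dv ξ} [IsDominant ξ] (hD : ∀ x, D.g x ∈ Reg ξ (ξ (pt F))) {f : F}
    (hf : D.IsSec f) : f ∈ Reg ξ (ξ (pt F)) := by
  have h1 : f = f / D.g (ξ (pt F)) * D.g (ξ (pt F)) := by rw [div_mul_cancel₀ _ (D.ne _)]
  rw [h1]
  exact mul_mem (reg_generic (hf _)) (hD _)

end

variable {K : Type u} [Field K] {A : Scheme.{u}} {F : Type u} [Field F] {ξ : Spec (CommRingCat.of F) ⟶ A}
  [Algebra K F] {a : A ⟶ Spec (CommRingCat.of K)}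

/-- The sections generated by given ones. -/
def gens (D : Dv ξ) {ι : Type*} (d : ι → F) (m N : ℕ) : Set F :=
  {f | ∃ (i : ι) (k : ℕ) (h : F), m + k = N ∧ (D.pow k).IsSec h ∧ f = d i * h}

theorem span_gens [IsIntegral A] [IsDominant ξ]
    (hξa : ξ ≫ a = Spec.map (CommRingCat.ofHom (algebraMap K F))) (D : Dv ξ) {ι : Type*} (d : ι → F)
    {m : ℕ} (hm : 0 < m) (hd : ∀ i, (D.pow m).IsSec (d i)) (hda : ∀ i, IsAffineOpen ((D.pow m).nv (d i)))
    {N : ℕ} {f : F} (hf : f ∈ Submodule.span K (gens D d m N)) :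
    (D.pow N).IsSec f ∧ IsAffineOpen ((D.pow N).nv f) := by
  induction hf using Submodule.span_induction with
  | mem x hx =>
    obtain ⟨i, k, h, rfl, hh, rfl⟩ := hx
    refine ⟨(hd i).pow_mul hh, ?_⟩
    rw [Dv.nv_pow_mul (hd i) hh]
    exact Dv.isAffineOpen_inf_nv hm (hda i) hh
  | zero => exact ⟨Dv.IsSec.zero, Dv.isAffineOpen_nv_zero⟩
  | add x y _ _ hx hy => exact ⟨hx.1.add hy.1, Dv.isAffineOpen_nv_add hx.2 hy.2 hx.1 hy.1⟩
  | smul k x _ hx =>
    rw [Algebra.smul_def]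
    exact ⟨hx.1.smul (algebraMap_mem hξa k), Dv.isAffineOpen_nv_smul (algebraMap_mem hξa k) hx.1 hx.2⟩

variable {K' : Type u} [Field K'] [Algebra K K'] {P : Scheme.{u}} {p : P ⟶ A}
  {b : P ⟶ Spec (CommRingCat.of K')}
  (H : IsPullback p b a (Spec.map (CommRingCat.ofHom (algebraMap K K'))))
  [Algebra K' F] [IsScalarTower K K' F]
  {υ : Spec (CommRingCat.of F) ⟶ P} (hξ : υ ≫ p = ξ)
  (hυ : υ ≫ b = Spec.map (CommRingCat.ofHom (algebraMap K' F)))
  [IsIntegral A] [IsIntegral P] [IsDominant υ] [IsDominant ξ]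

omit [IsScalarTower K K' F] in
include H hυ in
/-- **The radical trick**: a power of a section with affine nonvanishing locus is generated by given sections
with affine nonvanishing loci covering `A`. -/
theorem exists_pow_mem [CompactSpace P] (D : Dv ξ) (hDg : ∀ x, D.g x ∈ Reg ξ (ξ (pt F)))
    {ι : Type*} [Finite ι] (d : ι → F) {m : ℕ}
    (hm : 0 < m) (hd : ∀ i, (D.pow m).IsSec (d i)) (hcov : ∀ x : A, ∃ i, x ∈ (D.pow m).nv (d i))
    {N : ℕ} (hN : 0 < N) {t : F} (ht : ((D.pull (e_id hξ)).pow N).IsSec t)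
    (hta : IsAffineOpen (((D.pull (e_id hξ)).pow N).nv t))
    (htn : ((((D.pull (e_id hξ)).pow N).nv t : P.Opens) : Set P).Nonempty) :
    ∃ r : ℕ, 0 < r ∧ t ^ r ∈ Submodule.span K' (Submodule.span K (gens D d m (N * r)) : Set F) := by
  classical
  have _ := Fintype.ofFinite ι
  have ht0 : t ≠ 0 := by
    obtain ⟨w, hw⟩ := htn
    exact fun h0 => hw.1 (by rw [h0, zero_div])
  have hg : ∀ w : P, D.g (p w) ≠ 0 := fun w => D.ne _
  have hkey : ∀ (i : ι) (w : P), d i ^ N / t ^ m =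
      (d i / D.g (p w) ^ m) ^ N * ((t / D.g (p w) ^ N)⁻¹) ^ m := by
    intro i w
    have := hg w
    rw [inv_div, div_pow, div_pow, ← pow_mul, ← pow_mul, mul_comm N m]
    field_simp
  obtain ⟨β, hβ, hβ1⟩ := exists_one_eq_sum (ξ := υ) hta (fun i => d i ^ N / t ^ m) (fun i w hw => by
      rw [hkey i w]
      exact mul_mem (pow_mem (reg_map (σ := RingHom.id F) (e_id hξ) (hd i (p w))) N)
        (pow_mem (UnitAt.inv hw).2.1 m)) (fun w hw => by
      obtain ⟨i, hi⟩ := hcov (p w)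
      refine ⟨i, ?_⟩
      rw [hkey i w]
      exact (UnitAt.pow (UnitAt.map (σ := RingHom.id F) (e_id hξ) hi) N).mul
        ((UnitAt.inv hw).pow m)) htn
  rw [finsum_eq_sum_of_fintype] at hβ1
  -- extension of the coefficients
  choose l₀ hl₀ using fun i => Dv.exists_ext (E := (D.pull (e_id hξ)).pow 0) ht (β i) (fun w hw => by
    change β i / _ ^ 0 ∈ _
    rw [pow_zero, div_one]
    exact hβ i w hw)
  let l := Finset.univ.sup l₀
  have hsec : ∀ i w, β i * t ^ l / (D.pow (N * l)).g (p w) ∈ Reg υ w := by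
    intro i w
    have h1 := hl₀ i l (Finset.le_sup (Finset.mem_univ i)) w
    change β i * t ^ l / (D.g (p w) ^ 0 * (D.g (p w) ^ N) ^ l) ∈ _ at h1
    rw [pow_zero, one_mul, ← pow_mul] at h1
    exact h1
  let B := Module.Basis.ofVectorSpace K K'
  choose c hc1 hc2 hc3 using fun i => exists_sec_repr H hξ hυ B (D.pow (N * l))
    (fun x => pow_mem (hDg x) _) (hsec i)
  obtain ⟨N, rfl⟩ : ∃ N', N = N' + 1 := ⟨N - 1, by omega⟩
  refine ⟨m + l, by omega, ?_⟩
  have h1 : t ^ (m + l) = ∑ i, β i * t ^ l * d i ^ (N + 1) := by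
    have h2 := congrArg (· * (t ^ m * t ^ l)) hβ1
    simp only [one_mul, Finset.sum_mul] at h2
    rw [pow_add, ← h2]
    refine Finset.sum_congr rfl fun i _ => ?_
    field_simp
  rw [h1]
  refine Submodule.sum_mem _ fun i _ => ?_
  rw [← hc3 i, Finsupp.sum, Finset.sum_mul]
  refine Submodule.sum_mem _ fun j _ => ?_
  rw [smul_mul_assoc]
  refine Submodule.smul_mem _ _ (Submodule.subset_span (Submodule.subset_span ?_))
  refine ⟨i, m * N + (N + 1) * l, d i ^ N * c i j, by ring, ?_, by rw [pow_succ]; ring⟩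
  exact ((hd i).pow_pow N).pow_mul (hc1 i j)

end K643.Rat
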