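import Groth.Agent.Fdesc.LocGen
import Groth.Agent.Ega2.ExtCoeff
import Mathlib.AlgebraicGeometry.FunctionField
import Mathlib.AlgebraicGeometry.Morphisms.UnderlyingMap
import Mathlib.AlgebraicGeometry.Morphisms.Affine

/-!
# Rational functions through a generic point

`ξ : Spec F ⟶ X` dominant, `X` integral. `Reg ξ x` is the image in `F` of the local ring at `x`, `UnitAt ξ x f`
says that `f` is a unit of it.
-/

set_option autoImplicit false
set_option backward.isDefEq.respectTransparency false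

universe u

open CategoryTheory CategoryTheory.Limits AlgebraicGeometry TopologicalSpace
open Groth.Agent.Fdesc.LocGen

namespace K643.Rat

variable {X : Scheme.{u}} {F : Type u} [Field F] (ξ : Spec (CommRingCat.of F) ⟶ X)

/-- Evaluation of functions at the generic point. -/
noncomputable def ev {U : X.Opens} (h : (⊤ : (Spec (CommRingCat.of F)).Opens) ≤ ξ ⁻¹ᵁ U) :
    Γ(X, U) →+* F :=
  (Scheme.ΓSpecIso (CommRingCat.of F)).hom.hom.comp (ξ.appLE U ⊤ h).hom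

theorem ev_apply {U : X.Opens} (h : (⊤ : (Spec (CommRingCat.of F)).Opens) ≤ ξ ⁻¹ᵁ U) (a : Γ(X, U)) :
    ev ξ h a = (Scheme.ΓSpecIso (CommRingCat.of F)).hom (ξ.appLE U ⊤ h a) := rfl

theorem ev_ores {U V : X.Opens} (h : (⊤ : (Spec (CommRingCat.of F)).Opens) ≤ ξ ⁻¹ᵁ V) (hV : V ≤ U)
    (a : Γ(X, U)) : ev ξ h (ores hV a) = ev ξ (h.trans (ξ.preimage_mono hV)) a := by
  rw [ev_apply, ev_apply]
  congr 1
  change ξ.appLE V ⊤ h (X.presheaf.map (homOfLE hV).op a) = _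
  rw [← CommRingCat.comp_apply, Scheme.Hom.map_appLE]

theorem top_le_inf {U V : X.Opens} (h : (⊤ : (Spec (CommRingCat.of F)).Opens) ≤ ξ ⁻¹ᵁ U)
    (h' : (⊤ : (Spec (CommRingCat.of F)).Opens) ≤ ξ ⁻¹ᵁ V) :
    (⊤ : (Spec (CommRingCat.of F)).Opens) ≤ ξ ⁻¹ᵁ (U ⊓ V) := fun _ hx => ⟨h hx, h' hx⟩

/-- the point of `Spec F`. -/
noncomputable def pt (F : Type u) [Field F] : (Spec (CommRingCat.of F)) := IsLocalRing.closedPoint F

theorem eq_pt (z : (Spec (CommRingCat.of F))) : z = pt F :=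
  Subsingleton.elim (α := PrimeSpectrum F) z (pt F)

theorem top_le_iff {U : X.Opens} : (⊤ : (Spec (CommRingCat.of F)).Opens) ≤ ξ ⁻¹ᵁ U ↔ ξ (pt F) ∈ U := by
  constructor
  · intro h
    exact h (show pt F ∈ (⊤ : (Spec (CommRingCat.of F)).Opens) from trivial)
  · intro h z _
    rw [eq_pt z]
    exact h

theorem pt_mem [IsDominant ξ] {U : X.Opens} {x : X} (hx : x ∈ U) : ξ (pt F) ∈ U := by
  obtain ⟨z, hz⟩ := ξ.denseRange.exists_mem_open U.2 ⟨x, hx⟩
  rwa [eq_pt z] at hz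

theorem top_le [IsDominant ξ] {U : X.Opens} {x : X} (hx : x ∈ U) :
    (⊤ : (Spec (CommRingCat.of F)).Opens) ≤ ξ ⁻¹ᵁ U :=
  (top_le_iff ξ).mpr (pt_mem ξ hx)

theorem ev_injective [IsIntegral X] [IsDominant ξ] {U : X.Opens}
    (h : (⊤ : (Spec (CommRingCat.of F)).Opens) ≤ ξ ⁻¹ᵁ U) : Function.Injective (ev ξ h) := by
  rw [injective_iff_map_eq_zero]
  intro a ha
  have h1 : ξ.appLE U ⊤ h a = 0 := by
    apply (ConcreteCategory.bijective_of_isIso (Scheme.ΓSpecIso (CommRingCat.of F)).hom).1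
    rw [map_zero]
    exact ha
  rw [← basicOpen_eq_bot_iff]
  by_contra hcon
  obtain ⟨x, hx⟩ : ((X.basicOpen a : X.Opens) : Set X).Nonempty := by
    rw [Set.nonempty_iff_ne_empty]
    intro h0
    apply hcon
    ext1
    exact h0
  have h2 := top_le ξ hx
  have h3 := Scheme.basicOpen_appLE ξ ⊤ U h a
  rw [h1, Scheme.basicOpen_zero] at h3
  have h4 : pt F ∈ (⊤ : (Spec (CommRingCat.of F)).Opens) ⊓ ξ ⁻¹ᵁ (X.basicOpen a) :=
    ⟨trivial, h2 trivial⟩
  have h5 : pt F ∈ (⊥ : (Spec (CommRingCat.of F)).Opens) := by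
    rw [h3]
    exact h4
  exact h5

/-- The local ring of `X` at `x` inside `F`. -/
noncomputable def Reg (x : X) : Subring F where
  carrier := {f | ∃ (U : X.Opens) (_ : x ∈ U) (h : (⊤ : (Spec (CommRingCat.of F)).Opens) ≤ ξ ⁻¹ᵁ U)
    (a : Γ(X, U)), ev ξ h a = f}
  mul_mem' := by
    rintro _ _ ⟨U, hx, h, a, rfl⟩ ⟨V, hx', h', b, rfl⟩
    refine ⟨U ⊓ V, ⟨hx, hx'⟩, top_le_inf ξ h h', ores inf_le_left a * ores inf_le_right b, ?_⟩
    rw [map_mul, ev_ores, ev_ores]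
  one_mem' := by
    by_cases h : (⊤ : (Spec (CommRingCat.of F)).Opens) ≤ ξ ⁻¹ᵁ (⊤ : X.Opens)
    · exact ⟨⊤, trivial, h, 1, map_one _⟩
    · exact absurd le_top h
  add_mem' := by
    rintro _ _ ⟨U, hx, h, a, rfl⟩ ⟨V, hx', h', b, rfl⟩
    refine ⟨U ⊓ V, ⟨hx, hx'⟩, top_le_inf ξ h h', ores inf_le_left a + ores inf_le_right b, ?_⟩
    rw [map_add, ev_ores, ev_ores]
  zero_mem' := ⟨⊤, trivial, le_top, 0, map_zero _⟩
  neg_mem' := by
    rintro _ ⟨U, hx, h, a, rfl⟩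
    exact ⟨U, hx, h, -a, map_neg _ _⟩

variable {ξ} in
theorem ev_mem {x : X} {U : X.Opens} (hx : x ∈ U)
    (h : (⊤ : (Spec (CommRingCat.of F)).Opens) ≤ ξ ⁻¹ᵁ U) (a : Γ(X, U)) : ev ξ h a ∈ Reg ξ x :=
  ⟨U, hx, h, a, rfl⟩

/-- `f` is a unit at `x`. -/
def UnitAt (x : X) (f : F) : Prop := f ≠ 0 ∧ f ∈ Reg ξ x ∧ f⁻¹ ∈ Reg ξ x

namespace UnitAt

variable {ξ} {x : X} {f g : F}

theorem one : UnitAt ξ x 1 := ⟨one_ne_zero, one_mem _, by rw [inv_one]; exact one_mem _⟩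

theorem mul (h : UnitAt ξ x f) (h' : UnitAt ξ x g) : UnitAt ξ x (f * g) :=
  ⟨mul_ne_zero h.1 h'.1, mul_mem h.2.1 h'.2.1, by rw [mul_inv]; exact mul_mem h.2.2 h'.2.2⟩

theorem inv (h : UnitAt ξ x f) : UnitAt ξ x f⁻¹ :=
  ⟨inv_ne_zero h.1, h.2.2, by rw [inv_inv]; exact h.2.1⟩

theorem div (h : UnitAt ξ x f) (h' : UnitAt ξ x g) : UnitAt ξ x (f / g) := by
  rw [div_eq_mul_inv]
  exact h.mul h'.inv

theorem pow (h : UnitAt ξ x f) (n : ℕ) : UnitAt ξ x (f ^ n) := by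
  induction n with
  | zero => rw [pow_zero]; exact one
  | succ n ih => rw [pow_succ]; exact ih.mul h

theorem zpow (h : UnitAt ξ x f) (n : ℤ) : UnitAt ξ x (f ^ n) := by
  cases n with
  | ofNat n => rw [Int.ofNat_eq_natCast, zpow_natCast]; exact h.pow n
  | negSucc n => rw [zpow_negSucc]; exact (h.pow _).inv

theorem prod {ι : Type*} (s : Finset ι) (f : ι → F) (h : ∀ i ∈ s, UnitAt ξ x (f i)) :
    UnitAt ξ x (∏ i ∈ s, f i) := by
  classical
  induction s using Finset.induction_on with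
  | empty => rw [Finset.prod_empty]; exact one
  | insert a s ha ih =>
    rw [Finset.prod_insert ha]
    exact (h a (Finset.mem_insert_self _ _)).mul (ih fun i hi => h i (Finset.mem_insert_of_mem hi))

/-- Transfer along `f / g`. -/
theorem of_div (h : UnitAt ξ x (f / g)) (h' : UnitAt ξ x g) : UnitAt ξ x f := by
  have h1 := h.mul h'
  rwa [div_mul_cancel₀ _ h'.1] at h1

theorem of_mul_left (hf : f ∈ Reg ξ x) (hg : g ∈ Reg ξ x) (h : UnitAt ξ x (f * g)) : UnitAt ξ x f := by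
  have h0 := h.1
  have hf0 : f ≠ 0 := left_ne_zero_of_mul h0
  have hg0 : g ≠ 0 := right_ne_zero_of_mul h0
  refine ⟨hf0, hf, ?_⟩
  have : f⁻¹ = g * (f * g)⁻¹ := by field_simp
  rw [this]
  exact mul_mem hg h.2.2

theorem of_mul_right (hf : f ∈ Reg ξ x) (hg : g ∈ Reg ξ x) (h : UnitAt ξ x (f * g)) : UnitAt ξ x g := by
  rw [mul_comm] at h
  exact of_mul_left hg hf h

end UnitAt

theorem unitAt_ev_iff [IsIntegral X] [IsDominant ξ] {U : X.Opens}
    (h : (⊤ : (Spec (CommRingCat.of F)).Opens) ≤ ξ ⁻¹ᵁ U) (a : Γ(X, U)) {x : X} (hx : x ∈ U) :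
    UnitAt ξ x (ev ξ h a) ↔ x ∈ X.basicOpen a := by
  constructor
  · rintro ⟨h0, -, V, hxV, hV, b, hb⟩
    have h1 : ores (inf_le_left : U ⊓ V ≤ U) a * ores (inf_le_right : U ⊓ V ≤ V) b = 1 := by
      apply ev_injective ξ (top_le_inf ξ h hV)
      rw [map_mul, ev_ores, ev_ores, hb, mul_inv_cancel₀ h0, map_one]
    have h2 : IsUnit (ores (inf_le_left : U ⊓ V ≤ U) a) := IsUnit.of_mul_eq_one _ h1
    have h3 : X.basicOpen (ores (inf_le_left : U ⊓ V ≤ U) a) = U ⊓ V :=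
      X.toRingedSpace.basicOpen_of_isUnit h2
    have h4 : x ∈ X.basicOpen (ores (inf_le_left : U ⊓ V ≤ U) a) := by
      rw [h3]
      exact ⟨hx, hxV⟩
    rw [Groth.Agent.Ega2.ExtCoeff.basicOpen_res] at h4
    exact h4.2
  · intro hxa
    have hD := top_le ξ hxa
    have hu : IsUnit (ores (X.basicOpen_le a) a) := RingedSpace.isUnit_res_basicOpen _ a
    obtain ⟨b, hb'⟩ := hu.exists_right_inv
    have h1 : ev ξ h a * ev ξ hD b = 1 := by
      rw [← ev_ores ξ hD (X.basicOpen_le a), ← map_mul, hb', map_one]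
    have h0 : ev ξ h a ≠ 0 := left_ne_zero_of_mul_eq_one h1
    refine ⟨h0, ev_mem hx h a, ?_⟩
    rw [inv_eq_of_mul_eq_one_right h1]
    exact ev_mem hxa hD b

theorem isOpen_reg (f : F) : IsOpen {x : X | f ∈ Reg ξ x} := by
  rw [isOpen_iff_forall_mem_open]
  rintro x ⟨U, hx, h, a, rfl⟩
  exact ⟨U, fun y hy => ev_mem hy h a, U.2, hx⟩

theorem isOpen_unitAt (f : F) : IsOpen {x : X | UnitAt ξ x f} := by
  by_cases hf : f = 0
  · have : {x : X | UnitAt ξ x f} = ∅ := by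
      ext x
      constructor
      · intro h; exact absurd hf h.1
      · intro h; exact h.elim
    rw [this]
    exact isOpen_empty
  · have : {x : X | UnitAt ξ x f} = {x : X | f ∈ Reg ξ x} ∩ {x : X | f⁻¹ ∈ Reg ξ x} := by
      ext x
      constructor
      · intro h; exact h.2
      · intro h; exact ⟨hf, h⟩
    rw [this]
    exact (isOpen_reg ξ f).inter (isOpen_reg ξ f⁻¹)

/-- Rational functions regular on an open are sections. -/
theorem exists_section [IsIntegral X] [IsDominant ξ] {U : X.Opens}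
    (h : (⊤ : (Spec (CommRingCat.of F)).Opens) ≤ ξ ⁻¹ᵁ U) (f : F) (hf : ∀ x ∈ U, f ∈ Reg ξ x) :
    ∃ a : Γ(X, U), ev ξ h a = f := by
  choose V hxV hV a ha using hf
  have h1 : ∀ x : U, (⊤ : (Spec (CommRingCat.of F)).Opens) ≤ ξ ⁻¹ᵁ (U ⊓ V x.1 x.2) :=
    fun x => top_le_inf ξ h (hV x.1 x.2)
  obtain ⟨t, ht⟩ := ores_glue (V := U) (fun x : U => U ⊓ V x.1 x.2) (fun x => inf_le_left)
    (fun x hx => Opens.mem_iSup.mpr ⟨⟨x, hx⟩, hx, hxV x hx⟩)
    (fun x => ores (inf_le_right : U ⊓ V x.1 x.2 ≤ V x.1 x.2) (a x.1 x.2)) (by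
      intro x y
      apply ev_injective ξ (top_le_inf ξ (h1 x) (h1 y))
      rw [ores_ores, ores_ores, ev_ores, ev_ores, ha, ha])
  refine ⟨t, ?_⟩
  have hp : ξ (pt F) ∈ U := (top_le_iff ξ).mp h
  have h2 := ev_ores ξ (h1 ⟨_, hp⟩) (inf_le_left : U ⊓ V _ hp ≤ U) t
  rw [ht, ev_ores, ha] at h2
  exact h2.symm

/-- Sums of nonunits are nonunits. -/
theorem exists_unitAt_of_sum [IsIntegral X] [IsDominant ξ] {x : X} {ι : Type*} (s : Finset ι)
    (f : ι → F) (hf : ∀ i ∈ s, f i ∈ Reg ξ x) (h : UnitAt ξ x (∑ i ∈ s, f i)) :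
    ∃ i ∈ s, UnitAt ξ x (f i) := by
  classical
  induction s using Finset.induction_on with
  | empty => rw [Finset.sum_empty] at h; exact absurd rfl h.1
  | insert a s ha ih =>
    rw [Finset.sum_insert ha] at h
    obtain ⟨U, hxU, hU, b, hb⟩ := hf a (Finset.mem_insert_self _ _)
    obtain ⟨V, hxV, hV, c, hc⟩ : ∑ i ∈ s, f i ∈ Reg ξ x :=
      sum_mem fun i hi => hf i (Finset.mem_insert_of_mem hi)
    have hUV := top_le_inf ξ hU hV
    have h1 : ev ξ hUV (ores inf_le_left b + ores inf_le_right c) = f a + ∑ i ∈ s, f i := by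
      rw [map_add, ev_ores, ev_ores, hb, hc]
    have hxUV : x ∈ U ⊓ V := ⟨hxU, hxV⟩
    rw [← h1, unitAt_ev_iff ξ hUV _ hxUV, Scheme.mem_basicOpen _ _ _ hxUV, map_add] at h
    rcases IsLocalRing.isUnit_or_isUnit_of_isUnit_add h with h2 | h2
    · refine ⟨a, Finset.mem_insert_self _ _, ?_⟩
      rw [← Scheme.mem_basicOpen, ← unitAt_ev_iff ξ hUV _ hxUV, ev_ores, hb] at h2
      exact h2
    · rw [← Scheme.mem_basicOpen, ← unitAt_ev_iff ξ hUV _ hxUV, ev_ores, hc] at h2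
      obtain ⟨i, hi, h3⟩ := ih (fun i hi => hf i (Finset.mem_insert_of_mem hi)) h2
      exact ⟨i, Finset.mem_insert_of_mem hi, h3⟩

/-- The unit locus of a regular function in an affine open is affine. -/
theorem isAffineOpen_inf [IsIntegral X] [IsDominant ξ] {U : X.Opens} (hU : IsAffineOpen U) (f : F)
    (hf : ∀ x ∈ U, f ∈ Reg ξ x) (V : X.Opens) (hV : ∀ x, x ∈ V ↔ x ∈ U ∧ UnitAt ξ x f) :
    IsAffineOpen V := by
  by_cases hne : (U : Set X).Nonempty
  · obtain ⟨x, hx⟩ := hne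
    obtain ⟨a, ha⟩ := exists_section ξ (top_le ξ hx) f hf
    have : V = X.basicOpen a := by
      ext y
      constructor
      · intro hy
        obtain ⟨h1, h2⟩ := (hV y).mp hy
        rw [← ha] at h2
        exact (unitAt_ev_iff ξ _ a h1).mp h2
      · intro hy
        have h1 : y ∈ U := X.basicOpen_le a hy
        refine (hV y).mpr ⟨h1, ?_⟩
        rw [← ha]
        exact (unitAt_ev_iff ξ _ a h1).mpr hy
    rw [this]
    exact hU.basicOpen a
  · have : V = ⊥ := by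
      ext y
      constructor
      · intro hy
        exact (hne ⟨y, ((hV y).mp hy).1⟩).elim
      · intro hy
        exact hy.elim
    rw [this]
    exact isAffineOpen_bot X

end K643.Rat
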