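import Groth.Agent.Neron.K643.EData

/-!
# Stable divisors
-/

set_option autoImplicit false
set_option backward.isDefEq.respectTransparency false
set_option linter.unusedSectionVars false

universe u

open CategoryTheory CategoryTheory.Limits AlgebraicGeometry TopologicalSpace
open Groth.Agent Groth.Agent.Fdesc.LocGen Groth.Agent.Fga.GenIso
open Groth.Agent.Sga7.H331

namespace K643.Rat

variable {R R' K K' : Type u} [CommRing R] [IsDomain R] [IsDiscreteValuationRing R]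
  [CommRing R'] [IsDomain R'] [IsDiscreteValuationRing R'] [Algebra R R']
  [Field K] [Algebra R K] [IsFractionRing R K] [Field K'] [Algebra R' K'] [IsFractionRing R' K']
  [Algebra K K'] [Algebra R K'] [IsScalarTower R K K'] [IsScalarTower R R' K']
  {E : Data R' K K'} (L : ∀ σ : R' ≃ₐ[R] R', E.Lift σ)
  {F : Type u} [Field F]
  {ξ : Spec (CommRingCat.of F) ⟶ E.X} {ζ : Spec (CommRingCat.of F) ⟶ E.A}

/-- Two divisors which agree on the generic fibre. -/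
def Compat (D : Dv ξ) (DA : Dv ζ) : Prop :=
  ∀ w : E.P, UnitAt ξ (E.j w) (D.g (E.j w) / DA.g (E.p w))

theorem Compat.pow {D : Dv ξ} {DA : Dv ζ} (h : Compat D DA) (n : ℕ) : Compat (D.pow n) (DA.pow n) := by
  intro w
  change UnitAt ξ (E.j w) (D.g (E.j w) ^ n / DA.g (E.p w) ^ n)
  rw [← div_pow]
  exact (h w).pow n

theorem Compat.prod {ι : Type*} (T : Finset ι) {D : ι → Dv ξ} {DA : Dv ζ} (h : ∀ i ∈ T, Compat (D i) DA) :
    Compat (Dv.prod T D) (DA.pow T.card) := by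
  intro w
  change UnitAt ξ (E.j w) ((∏ i ∈ T, (D i).g (E.j w)) / DA.g (E.p w) ^ T.card)
  rw [← Finset.prod_const, ← Finset.prod_div_distrib]
  exact UnitAt.prod T _ fun i hi => h i hi w

section

variable [IsIntegral E.X] [Smooth E.x] [IsSeparated E.x]

theorem φ_one : (L 1).φ = 𝟙 _ := by
  have h1 := φ_mul L 1 1
  have := Data.isIso_φ L 1
  rw [mul_one] at h1
  rw [← cancel_epi (L 1).φ, h1, Category.comp_id]

theorem φ_φ (σ τ : R' ≃ₐ[R] R') (x : E.X) : (L τ).φ ((L σ).φ x) = (L (σ * τ)).φ x := by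
  rw [← Scheme.Hom.comp_apply, φ_mul]

theorem φ_one_apply (x : E.X) : (L 1).φ x = x := by
  rw [φ_one]
  rfl

theorem isGenZ_φ {π : Γ(E.X, ⊤)} (hπ : ∀ σ, (L σ).φ.appTop π = π) (σ : R' ≃ₐ[R] R') {x : E.X}
    (hx : IsGenZ π x) : IsGenZ π ((L σ).φ x) := by
  have h0 : ∀ τ, (L τ).φ ⁻¹ᵁ (E.X.basicOpen π) = E.X.basicOpen π := fun τ =>
    CovGeom.preimage_basicOpen_eq (hπ τ)
  have h1 : ∀ (τ : R' ≃ₐ[R] R') (z : E.X), (L τ).φ z ∈ E.X.basicOpen π ↔ z ∈ E.X.basicOpen π := by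
    intro τ z
    have h2 : z ∈ (L τ).φ ⁻¹ᵁ (E.X.basicOpen π) ↔ z ∈ E.X.basicOpen π := by rw [h0]
    exact h2
  refine ⟨fun h => hx.1 ((h1 σ x).mp h), fun z hz hzπ => ?_⟩
  have h2 : (L σ⁻¹).φ z ⤳ x := by
    have h3 := hz.map (L σ⁻¹).φ.continuous
    rwa [φ_φ, mul_inv_cancel, φ_one_apply] at h3
  have h3 := hx.2 _ h2 (fun h => hzπ ((h1 σ⁻¹ z).mp h))
  rw [← h3, φ_φ, inv_mul_cancel, φ_one_apply]

end

variable [Algebra K' F] [Algebra K F] [IsScalarTower K K' F]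
  {υ : Spec (CommRingCat.of F) ⟶ E.P} [IsDominant ξ] [IsDominant υ] [IsDominant ζ]
  (hj : υ ≫ E.j = ξ) (hp : υ ≫ E.p = ζ)
  (hb : υ ≫ E.b = Spec.map (CommRingCat.ofHom (algebraMap K' F)))
  {s : (R' ≃ₐ[R] R') → F →+* F} (hs : ∀ σ, ξ ≫ (L σ).φ = Spec.map (CommRingCat.ofHom (s σ)) ≫ ξ)

include hj hp in
theorem Compat.pull [IsOpenImmersion E.j] {D : Dv ξ} {DA : Dv ζ} (h : Compat D DA)
    (hDA : ∀ x, DA.g x ∈ Reg ζ (ζ (pt F))) (σ : R' ≃ₐ[R] R') : Compat (D.pull (hs σ)) DA := by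
  intro w
  have h1 : E.j ((L σ).ψ w) = (L σ).φ (E.j w) := by
    rw [← Scheme.Hom.comp_apply, ← (L σ).hψ, Scheme.Hom.comp_apply]
  have h2 : E.p ((L σ).ψ w) = E.p w := by
    rw [← Scheme.Hom.comp_apply, (L σ).hp]
  have h3 := h ((L σ).ψ w)
  rw [h1, h2] at h3
  have h4 := UnitAt.map (hs σ) h3
  rw [map_div₀, s_eq L hj hp hs σ (hDA (E.p w))] at h4
  exact h4

include hs in
theorem Ord.map {π : Γ(E.X, ⊤)} {σ : R' ≃ₐ[R] R'} (hsπ : s σ (vl ξ π) = vl ξ π) {x : E.X} {f : F}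
    {m : ℤ} (h : Ord ξ π ((L σ).φ x) f m) : Ord ξ π x (s σ f) m := by
  have h1 := UnitAt.map (hs σ) h
  rwa [map_div₀, map_zpow₀, hsπ] at h1

variable [IsIntegral E.X] [Smooth E.x] [IsSeparated E.x] [QuasiCompact E.x]

include hj hp hb in
/-- The product of the conjugates of a divisor over a suitable finite set is stable. -/
theorem exists_stable (hF : ∀ f : F, f ∈ Reg ξ (ξ (pt F)))
    (hunif : ∀ ϖ : R, Irreducible ϖ → Irreducible (algebraMap R R' ϖ))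
    (g : Dv ξ) (gA : Dv ζ) (hgA : ∀ x, gA.g x ∈ Reg ζ (ζ (pt F))) (hc : Compat g gA) :
    ∃ T : Finset (R' ≃ₐ[R] R'), T.Nonempty ∧ ∀ σ x,
      UnitAt ξ x (((Dv.prod T fun τ => g.pull (hs τ)).pull (hs σ)).g x /
        (Dv.prod T fun τ => g.pull (hs τ)).g x) := by
  obtain ⟨ϖ, hϖ⟩ := IsDiscreteValuationRing.exists_irreducible R
  have hϖ' := hunif ϖ hϖ
  have hjo : IsOpenImmersion E.j :=
    MorphismProperty.of_isPullback (P := @IsOpenImmersion) E.hX.flip (isOpenImmersion_Spec R' K')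
  have hXc : CompactSpace E.X := (quasiCompact_iff_compactSpace (f := E.x)).mp inferInstance
  have hXn : IsLocallyNoetherian E.X := LocallyOfFiniteType.isLocallyNoetherian E.x
  have hXN : IsNoetherian E.X := {}
  set π : Γ(E.X, ⊤) := Fga.DVRGeom.scal E.x (algebraMap R R' ϖ) with hπdef
  have hvl : vl ξ π = algebraMap K' F (algebraMap R' K' (algebraMap R R' ϖ)) := ev_scal_x hj hb _
  have hπ0 : vl ξ π ≠ 0 := by
    rw [hvl]
    exact (map_ne_zero _).mpr ((map_ne_zero_iff _ (IsFractionRing.injective R' K')).mpr hϖ'.ne_zero)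
  have hsπ : ∀ σ, s σ (vl ξ π) = vl ξ π := fun σ => by
    rw [hvl, s_algebraMap L hj hb hs, σ.commutes]
  have hφπ : ∀ σ : R' ≃ₐ[R] R', (L σ).φ.appTop π = π := fun σ => (L σ).scal_algebraMap ϖ
  have hjr : E.j.opensRange = E.X.basicOpen π := Fga.DVRGeom.opensRange_eq E.x E.hX hϖ'
  have hprime : ∀ x : E.X, x ∉ E.X.basicOpen π →
      (Ideal.span {ge (show x ∈ (⊤ : E.X.Opens) from trivial) π}).IsPrime :=
    Fga.DVRGeom.isPrime_span_ge E.x hϖ'
  clear_value π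
  obtain ⟨T, hTne, hT⟩ := exists_reps (fun σ x => (L σ).φ x) (φ_φ L) (φ_one_apply L)
    {η : E.X | IsGenZ π η} (finite_isGenZ π) (fun σ x hx => isGenZ_φ L hφπ σ hx)
  refine ⟨T, hTne, fun σ x => ?_⟩
  set G := Dv.prod T fun τ => g.pull (hs τ) with hG
  have hGc : Compat G (gA.pow T.card) := Compat.prod T fun τ _ => Compat.pull L hj hp hs hc hgA τ
  have hGAg : ∀ x, (gA.pow T.card).g x ∈ Reg ζ (ζ (pt F)) := fun x => pow_mem (hgA x) _
  have hGcσ : Compat (G.pull (hs σ)) (gA.pow T.card) := Compat.pull L hj hp hs hGc hGAg σ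
  -- on the generic fibre
  have hgen : ∀ z ∈ E.X.basicOpen π, UnitAt ξ z ((G.pull (hs σ)).g z / G.g z) := by
    intro z hz
    rw [← hjr] at hz
    obtain ⟨w, rfl⟩ := hz
    have h1 := (hGcσ w).div (hGc w)
    rwa [div_div_div_cancel_right₀ ((gA.pow T.card).ne _)] at h1
  by_cases hx : x ∈ E.X.basicOpen π
  · exact hgen x hx
  -- the orders at the generic points
  have hord : ∀ z : E.X, ∃ m : ℤ, IsGenZ π z → Ord ξ π z (g.g z) m := by
    intro z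
    by_cases hz : IsGenZ π z
    · obtain ⟨m, hm⟩ := exists_ord_gen hF hz hπ0 (hprime z hz.1) (g.ne z)
      exact ⟨m, fun _ => hm⟩
    · exact ⟨0, fun h => absurd h hz⟩
  choose ν hν using hord
  have hGord : ∀ z, IsGenZ π z → Ord ξ π z (G.g z) (∑ τ ∈ T, ν ((L τ).φ z)) := by
    intro z hz
    exact Ord.prod T hπ0 fun τ _ => Ord.map L hs (hsπ τ) (hν _ (isGenZ_φ L hφπ τ hz))
  have hGσord : ∀ z, IsGenZ π z → Ord ξ π z ((G.pull (hs σ)).g z) (∑ τ ∈ T, ν ((L τ).φ z)) := by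
    intro z hz
    rw [← hT ν σ z hz]
    exact Ord.map L hs (hsπ σ) (hGord _ (isGenZ_φ L hφπ σ hz))
  -- near `x`
  obtain ⟨W₁, hxW₁, hW₁⟩ := (G.pull (hs σ)).loc x
  obtain ⟨W₂, hxW₂, hW₂⟩ := G.loc x
  have hdiv : ∀ w, (G.pull (hs σ)).g w / G.g w /
      ((G.pull (hs σ)).g w / (G.pull (hs σ)).g x / (G.g w / G.g x)) = (G.pull (hs σ)).g x / G.g x := by
    intro w
    have := (G.pull (hs σ)).ne w
    have := (G.pull (hs σ)).ne x
    have := G.ne w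
    have := G.ne x
    field_simp
  obtain ⟨m, hm⟩ := exists_ord hπ0 (hprime x hx) (f := (G.pull (hs σ)).g x / G.g x)
    (show x ∈ W₁ ⊓ W₂ from ⟨hxW₁, hxW₂⟩) (by
    intro w hw hwπ
    rw [← hdiv w]
    exact (hgen w hwπ).div ((hW₁ w hw.1).div (hW₂ w hw.2)))
  obtain ⟨η, hη, hηx⟩ := exists_isGenZ π hx
  have hopen : IsOpen ({z | Ord ξ π z ((G.pull (hs σ)).g x / G.g x) m} ∩ ((W₁ ⊓ W₂ : E.X.Opens) : Set E.X)) :=
    (isOpen_ord _ _).inter (W₁ ⊓ W₂).2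
  obtain ⟨h1, h2⟩ : η ∈ {z | Ord ξ π z ((G.pull (hs σ)).g x / G.g x) m} ∩
      ((W₁ ⊓ W₂ : E.X.Opens) : Set E.X) := hηx.mem_open hopen ⟨hm, hxW₁, hxW₂⟩
  have h3 : Ord ξ π η ((G.pull (hs σ)).g η / G.g η) 0 := by
    have h4 := (hGσord η hη).div hπ0 (hGord η hη)
    rwa [sub_self] at h4
  have h4 : Ord ξ π η ((G.pull (hs σ)).g η / G.g η) m := by
    refine Ord.of_unitAt_div (div_ne_zero ((G.pull (hs σ)).ne x) (G.ne x)) ?_ h1
    have h5 := (hW₁ η h2.1).div (hW₂ η h2.2)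
    rwa [div_div_div_comm] at h5
  have h5 : m = 0 := Ord.unique hη.1 (div_ne_zero ((G.pull (hs σ)).ne η) (G.ne η)) hπ0 h4 h3
  rw [h5, Ord, zpow_zero, div_one] at hm
  exact hm

end K643.Rat
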